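import Groth.Agent.ProperClopenLib.Lifts

/-!
# Components and connectedness along maps with unique lifting of open and closed subsets
-/

set_option autoImplicit false

namespace ProperClopenLib

variable {P Y : Type*} [TopologicalSpace P] [TopologicalSpace Y]

theorem Lifts.eq_univ_of_preimage {q : P → Y} (h : Lifts q) {U : Set Y} (hU : IsClopen U)
    (hq : q ⁻¹' U = Set.univ) : U = Set.univ := by
  obtain ⟨W, -, huniq⟩ := h Set.univ isClopen_univ
  exact (huniq U ⟨hU, hq⟩).trans (huniq Set.univ ⟨isClopen_univ, Set.preimage_univ⟩).symm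

theorem Lifts.eq_empty_of_preimage {q : P → Y} (h : Lifts q) {U : Set Y} (hU : IsClopen U)
    (hq : q ⁻¹' U = ∅) : U = ∅ := by
  obtain ⟨W, -, huniq⟩ := h ∅ isClopen_empty
  exact (huniq U ⟨hU, hq⟩).trans (huniq ∅ ⟨isClopen_empty, Set.preimage_empty⟩).symm

theorem Lifts.preimage_injective {q : P → Y} (h : Lifts q) {U U' : Set Y} (hU : IsClopen U)
    (hU' : IsClopen U') (hq : Continuous q) (he : q ⁻¹' U = q ⁻¹' U') : U = U' := by
  obtain ⟨W, -, huniq⟩ := h _ (hU.preimage hq)
  exact (huniq U ⟨hU, rfl⟩).trans (huniq U' ⟨hU', he.symm⟩).symm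

theorem Lifts.nonempty_iff {q : P → Y} (h : Lifts q) : Nonempty Y ↔ Nonempty P := by
  refine ⟨fun ⟨y⟩ ↦ ?_, fun ⟨p⟩ ↦ ⟨q p⟩⟩
  by_contra hP
  rw [not_nonempty_iff] at hP
  exact (h.eq_empty_of_preimage isClopen_univ (Set.eq_empty_of_isEmpty _)).le (Set.mem_univ y)

theorem Lifts.connectedSpace_iff {q : P → Y} (h : Lifts q) (hq : Continuous q) :
    ConnectedSpace Y ↔ ConnectedSpace P := by
  rw [connectedSpace_iff_clopen, connectedSpace_iff_clopen, h.nonempty_iff]
  refine and_congr_right fun _ ↦ ⟨fun hY V hV ↦ ?_, fun hP U hU ↦ ?_⟩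
  · obtain ⟨U, ⟨hU, rfl⟩, -⟩ := h V hV
    rcases hY U hU with rfl | rfl
    · exact Or.inl Set.preimage_empty
    · exact Or.inr Set.preimage_univ
  · rcases hP _ (hU.preimage hq) with e | e
    · exact Or.inl (h.eq_empty_of_preimage hU e)
    · exact Or.inr (h.eq_univ_of_preimage hU e)

theorem Lifts.bijective_connectedComponentsMap {q : P → Y} (h : Lifts q) (hq : Continuous q)
    [Finite (ConnectedComponents P)] : Function.Bijective hq.connectedComponentsMap := by
  haveI : T1Space (ConnectedComponents P) := ⟨fun a ↦ by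
    obtain ⟨p, rfl⟩ := ConnectedComponents.surjective_coe a
    refine ConnectedComponents.isQuotientMap_coe.isClosed_preimage.mp ?_
    rw [connectedComponents_preimage_singleton]
    exact isClosed_connectedComponent⟩
  haveI : DiscreteTopology (ConnectedComponents P) := inferInstance
  have hC : ∀ p : P, IsClopen (connectedComponent p) := fun p ↦ by
    have := (isClopen_discrete ({(p : ConnectedComponents P)} : Set (ConnectedComponents P))).preimage
      ConnectedComponents.continuous_coe
    rwa [connectedComponents_preimage_singleton] at this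
  choose U hU huniq using fun p ↦ h _ (hC p)
  refine ⟨fun a b hab ↦ ?_, fun z ↦ ?_⟩
  · obtain ⟨p, rfl⟩ := ConnectedComponents.surjective_coe a
    obtain ⟨p', rfl⟩ := ConnectedComponents.surjective_coe b
    have hab' : (q p : ConnectedComponents Y) = q p' := hab
    rw [ConnectedComponents.coe_eq_coe'] at hab'
    have hp' : q p' ∈ U p' := (hU p').2.ge mem_connectedComponent
    have : p ∈ connectedComponent p' :=
      (hU p').2.le ((hU p').1.connectedComponent_subset hp' hab')
    exact ConnectedComponents.coe_eq_coe'.mpr this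
  · obtain ⟨y, rfl⟩ := ConnectedComponents.surjective_coe z
    -- the lifts of the components cover
    have hfin : (Set.range U).Finite := by
      refine Set.Finite.subset (Set.finite_range fun a : ConnectedComponents P ↦
        U (ConnectedComponents.surjective_coe a).choose) ?_
      rintro _ ⟨p, rfl⟩
      refine ⟨p, ?_⟩
      have hp := (ConnectedComponents.surjective_coe (p : ConnectedComponents P)).choose_spec
      show U _ = U p
      refine huniq p _ ⟨(hU _).1, (hU _).2.trans ?_⟩
      exact connectedComponent_eq_iff_mem.mpr (ConnectedComponents.coe_eq_coe'.mp hp)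
    have hcl : IsClopen (⋃₀ Set.range U) :=
      ⟨Set.sUnion_eq_biUnion ▸ hfin.isClosed_biUnion (by rintro _ ⟨p, rfl⟩; exact (hU p).1.isClosed),
        isOpen_sUnion (by rintro _ ⟨p, rfl⟩; exact (hU p).1.isOpen)⟩
    have := h.eq_univ_of_preimage hcl (Set.eq_univ_of_forall fun p ↦
      ⟨U p, ⟨p, rfl⟩, (hU p).2.ge mem_connectedComponent⟩)
    obtain ⟨_, ⟨p, rfl⟩, hy⟩ := this.ge (Set.mem_univ y)
    refine ⟨(p : ConnectedComponents P), ?_⟩
    show (q p : ConnectedComponents Y) = y
    rw [ConnectedComponents.coe_eq_coe']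
    -- the lift of a component is connected
    have hconn : IsPreconnected (U p) := by
      rw [isPreconnected_iff_subset_of_disjoint_closed]
      intro s t hs ht hst hdis
      have hs' : IsClopen (U p ∩ s) := by
        refine ⟨(hU p).1.isClosed.inter hs, ?_⟩
        have : U p ∩ s = U p ∩ tᶜ := by
          ext z
          exact ⟨fun ⟨hz, hzs⟩ ↦ ⟨hz, fun hzt ↦ (hdis.le ⟨hz, hzs, hzt⟩ : z ∈ (∅ : Set Y))⟩,
            fun ⟨hz, hzt⟩ ↦ ⟨hz, (hst hz).resolve_right hzt⟩⟩
        rw [this]
        exact (hU p).1.isOpen.inter ht.isOpen_compl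
      rcases isPreconnected_iff_subset_of_disjoint_closed.mp isPreconnected_connectedComponent
        (q ⁻¹' s) (q ⁻¹' t) (hs.preimage hq) (ht.preimage hq)
        (fun z hz ↦ hst ((hU p).2.ge hz))
        (Set.eq_empty_of_forall_notMem fun z hz ↦
          hdis.le ⟨(hU p).2.ge hz.1, hz.2.1, hz.2.2⟩) with hsub | hsub
      · have e : U p ∩ s = U p := huniq p _ ⟨hs', by
          rw [Set.preimage_inter, (hU p).2]; exact Set.inter_eq_left.mpr hsub⟩
        exact Or.inl (Set.inter_eq_left.mp e)
      · have e : U p ∩ s = ∅ := h.eq_empty_of_preimage hs' (by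
          rw [Set.preimage_inter, (hU p).2]
          exact Set.eq_empty_of_forall_notMem fun z hz ↦
            hdis.le ⟨(hU p).2.ge hz.1, hz.2, hsub hz.1⟩)
        exact Or.inr fun z hz ↦ (hst hz).resolve_left fun hzs ↦ (e.le ⟨hz, hzs⟩ : z ∈ (∅ : Set Y))
    exact hconn.subset_connectedComponent hy ((hU p).2.ge mem_connectedComponent)

end ProperClopenLib
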