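import Mathlib.Topology.Clopen
import Mathlib.Topology.Homeomorph.Lemmas

/-!
# Unique lifting of open and closed subsets along a map
-/

set_option autoImplicit false

namespace ProperClopenLib

variable {P P' Y Y' : Type*} [TopologicalSpace P] [TopologicalSpace P'] [TopologicalSpace Y]
  [TopologicalSpace Y']

/-- Every open and closed set upstairs comes from exactly one downstairs. -/
def Lifts (q : P → Y) : Prop :=
  ∀ V : Set P, IsClopen V → ∃! U : Set Y, IsClopen U ∧ q ⁻¹' U = V

theorem Lifts.comp_left {q : P → Y} (h : Lifts q) (k : P' ≃ₜ P) : Lifts (q ∘ k) := by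
  intro V hV
  obtain ⟨U, ⟨hU, hUV⟩, huniq⟩ := h (k.symm ⁻¹' V) (hV.preimage k.symm.continuous)
  refine ⟨U, ⟨hU, ?_⟩, fun U' hU' ↦ huniq U' ⟨hU'.1, ?_⟩⟩
  · rw [Set.preimage_comp, hUV, ← Set.preimage_comp, k.symm_comp_self, Set.preimage_id]
  · rw [← hU'.2, ← Set.preimage_comp, Function.comp_assoc, k.self_comp_symm, Function.comp_id]

theorem Lifts.comp_right {q : P → Y} (h : Lifts q) (k : Y ≃ₜ Y') : Lifts (k ∘ q) := by
  intro V hV
  obtain ⟨U, ⟨hU, hUV⟩, huniq⟩ := h V hV
  refine ⟨k.symm ⁻¹' U, ⟨hU.preimage k.symm.continuous, ?_⟩, fun U' hU' ↦ ?_⟩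
  · rw [Set.preimage_comp, ← Set.preimage_comp (g := k.symm), k.symm_comp_self, Set.preimage_id,
      hUV]
  · have := huniq (k ⁻¹' U') ⟨hU'.1.preimage k.continuous, hU'.2⟩
    rw [← this, ← Set.preimage_comp, k.self_comp_symm, Set.preimage_id]

/-- Unique lifting only depends on the image of a closed embedding. -/
theorem Lifts.congr_range {q : P → Y} {q' : P' → Y} (hq : Topology.IsEmbedding q)
    (hq' : Topology.IsEmbedding q') (hr : Set.range q = Set.range q') (h : Lifts q) : Lifts q' := by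
  let k : P' ≃ₜ P := hq'.toHomeomorph.trans
    ((Homeomorph.setCongr hr.symm).trans hq.toHomeomorph.symm)
  have hk : q ∘ k = q' := by
    funext p
    exact congrArg Subtype.val
      (hq.toHomeomorph.apply_symm_apply ((Homeomorph.setCongr hr.symm) (hq'.toHomeomorph p)))
  exact hk ▸ h.comp_left k

end ProperClopenLib
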