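import Groth.Agent.ProperClopenLib.HenselianApps
import Groth.Agent.HenselLib.CriteriaFree
import Groth.Agent.H0Lib.Descent
import Groth.Agent.DvrProperLib.Closure
import Groth.Agent.ProperClopenLib.Lifts

/-!
# A henselian couple of a proper scheme is proper over a henselian pair
-/

set_option autoImplicit false

universe u

open CategoryTheory CategoryTheory.Limits AlgebraicGeometry Opposite TopologicalSpace

namespace ProperClopenLib

noncomputable section

/-- Open and closed subsets come from idempotent functions. -/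
theorem exists_idempotent_of_isClopen_scheme {X : Scheme.{u}} {U : Set X} (hU : IsClopen U) :
    ∃ e : Γ(X, ⊤), IsIdempotentElem e ∧ (X.basicOpen e : Set X) = U := by
  let U₁ : X.Opens := ⟨U, hU.isOpen⟩
  let U₀ : X.Opens := ⟨Uᶜ, hU.isClosed.isOpen_compl⟩
  have htop : U₁ ⊔ U₀ = ⊤ := TopologicalSpace.Opens.ext (Set.union_compl_self U)
  have hbot : ∀ W : X.Opens, W ≤ U₁ → W ≤ U₀ → ∀ a b : Γ(X, W), a = b := fun W h₁ h₀ a b ↦ by
    haveI : Subsingleton Γ(X, W) := by
      have : W = ⊥ := eq_bot_iff.mpr fun x hx ↦ (h₀ hx) (h₁ hx)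
      subst this
      infer_instance
    exact Subsingleton.elim a b
  let cov : Bool → X.Opens := fun b ↦ cond b U₁ U₀
  have hcov : (⊤ : X.Opens) ≤ iSup cov := by rw [← htop, iSup_bool_eq]; rfl
  let sf : ∀ b : Bool, Γ(X, cov b) := fun b ↦
    match b with
    | true => 1
    | false => 0
  obtain ⟨e₀, he₀, -⟩ := TopCat.Sheaf.existsUnique_gluing' X.sheaf cov ⊤ (fun _ ↦ homOfLE le_top) hcov sf
    (fun b b' ↦ by
      match b, b' with
      | true, true => rfl
      | false, false => rfl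
      | true, false => exact hbot _ inf_le_left inf_le_right _ _
      | false, true => exact hbot _ inf_le_right inf_le_left _ _)
  obtain ⟨e, h1, h0⟩ : ∃ e : Γ(X, ⊤), X.presheaf.map (homOfLE (le_top : U₁ ≤ ⊤)).op e = 1 ∧
      X.presheaf.map (homOfLE (le_top : U₀ ≤ ⊤)).op e = 0 := ⟨e₀, he₀ true, he₀ false⟩
  refine ⟨e, ?_, ?_⟩
  · have a₀ : X.presheaf.map (homOfLE (le_top : U₀ ≤ ⊤)).op (e * e) =
        X.presheaf.map (homOfLE (le_top : U₀ ≤ ⊤)).op e := by rw [map_mul, h0, mul_zero]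
    have a₁ : X.presheaf.map (homOfLE (le_top : U₁ ≤ ⊤)).op (e * e) =
        X.presheaf.map (homOfLE (le_top : U₁ ≤ ⊤)).op e := by rw [map_mul, h1, mul_one]
    refine TopCat.Sheaf.eq_of_locally_eq' X.sheaf cov ⊤ (fun _ ↦ homOfLE le_top) hcov _ _ fun b ↦ ?_
    cases b
    · exact a₀
    · exact a₁
  · ext x
    by_cases hx : x ∈ U
    · refine iff_of_true ?_ hx
      have h : x ∈ X.basicOpen (X.presheaf.map (homOfLE (le_top : U₁ ≤ ⊤)).op e) := by
        rw [h1, Scheme.basicOpen_of_isUnit _ isUnit_one]; exact hx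
      rw [Scheme.basicOpen_res] at h
      exact h.2
    · refine iff_of_false (fun h ↦ ?_) hx
      have h' : x ∈ X.basicOpen (X.presheaf.map (homOfLE (le_top : U₀ ≤ ⊤)).op e) := by
        rw [Scheme.basicOpen_res]; exact ⟨hx, h⟩
      rw [h0, Scheme.basicOpen_zero] at h'
      exact h'

/-- A closed map to an affine scheme which is injective on global functions is surjective. -/
theorem surjective_of_injective_appTop {Y : Scheme.{u}} [CompactSpace Y] {C : CommRingCat.{u}}
    (g : Y ⟶ Spec C) (hg : IsClosedMap g) (hinj : Function.Injective g.appTop) :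
    Function.Surjective g := by
  intro m
  by_contra hm
  have hm' : m ∈ ((Set.range g)ᶜ : Set (PrimeSpectrum C)) := fun ⟨y, hy⟩ ↦ hm ⟨y, hy⟩
  obtain ⟨_, ⟨_, ⟨r, rfl⟩, rfl⟩, hmr, hr⟩ :=
    PrimeSpectrum.isBasis_basic_opens.exists_subset_of_mem_open hm' hg.isClosed_range.isOpen_compl
  have hbot : Y.basicOpen (g.appTop ((Scheme.ΓSpecIso C).inv r)) = ⊥ := eq_bot_iff.mpr fun y hy ↦ by
    rw [← Scheme.preimage_basicOpen_top, basicOpen_eq_of_affine] at hy
    exact hr hy ⟨y, rfl⟩
  obtain ⟨n, hn⟩ := Y.isNilpotent_iff_basicOpen_eq_bot _ |>.mpr hbot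
  have hnil : r ^ n = 0 := by
    refine (ConcreteCategory.bijective_of_isIso (C := CommRingCat) (Scheme.ΓSpecIso C).inv).1
      (hinj ?_)
    rw [map_pow, map_pow, map_zero, map_zero]
    exact hn
  exact hmr (m.isPrime.mem_of_pow_mem n (hnil ▸ m.asIdeal.zero_mem))

variable {A : Type u} [CommRing A] [IsNoetherianRing A] {X : Scheme.{u}}
  (f : X ⟶ Spec (CommRingCat.of A)) [IsProper f] (I : Ideal A)

include f in
omit [IsNoetherianRing A] in
/-- The functions of the total space give a henselian pair. -/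
theorem henselianRing_of_couple (hf' : IsProper X.toSpecΓ) (φ : A →+* Γ(X, ⊤))
    (hφ : X.toSpecΓ ≫ Spec.map (CommRingCat.ofHom φ) = f)
    (hX : ∀ (Y : Scheme.{u}) (g : Y ⟶ X), IsFinite g →
      Lifts (pullback.fst g (pullback.fst f (Spec.map (CommRingCat.ofHom (Ideal.Quotient.mk I)))))) :
    HenselianRing Γ(X, ⊤) (I.map φ) := by
  let J : Ideal Γ(X, ⊤) := I.map φ
  let i := pullback.fst f (Spec.map (CommRingCat.ofHom (Ideal.Quotient.mk I)))
  haveI : CompactSpace X := QuasiCompact.compactSpace_of_compactSpace f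
  have hi : Set.range i = X.toSpecΓ ⁻¹' PrimeSpectrum.zeroLocus (J : Set Γ(X, ⊤)) := by
    rw [Scheme.Pullback.range_fst]
    have h1 : Set.range (Spec.map (CommRingCat.ofHom (Ideal.Quotient.mk I))) =
        PrimeSpectrum.zeroLocus (I : Set A) := by
      show Set.range (PrimeSpectrum.comap (Ideal.Quotient.mk I)) = _
      rw [range_comap_of_surjective _ _ Ideal.Quotient.mk_surjective, Ideal.mk_ker]
    rw [h1, ← hφ]
    show X.toSpecΓ ⁻¹' (PrimeSpectrum.comap φ ⁻¹' PrimeSpectrum.zeroLocus (I : Set A)) = _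
    refine congrArg (X.toSpecΓ ⁻¹' ·) ?_
    exact (PrimeSpectrum.preimage_comap_zeroLocus φ (I : Set A)).trans (PrimeSpectrum.zeroLocus_span _).symm
  have hsurj : Function.Surjective X.toSpecΓ :=
    surjective_of_injective_appTop X.toSpecΓ X.toSpecΓ.isClosedMap (by
      rw [Scheme.toSpecΓ_appTop]
      exact (ConcreteCategory.bijective_of_isIso (C := CommRingCat) _).1)
  have hJ : J ≤ Ideal.jacobson ⊥ := by
    refine le_sInf fun m hm ↦ ?_
    let mp : PrimeSpectrum Γ(X, ⊤) := ⟨m, hm.2.isPrime⟩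
    have hmc : IsClosed ({mp} : Set (PrimeSpectrum Γ(X, ⊤))) :=
      (PrimeSpectrum.isClosed_singleton_iff_isMaximal mp).mpr hm.2
    obtain ⟨x, hxm, hx⟩ := (hmc.preimage X.toSpecΓ.continuous).exists_closed_singleton
      ((hsurj mp).imp fun y hy ↦ hy)
    have hxr : x ∈ Set.range i := by
      by_contra hn
      let T : Closeds X := ⟨{x}, hx⟩
      let Z := Scheme.IdealSheafData.vanishingIdeal T
      obtain ⟨U, -, huniq⟩ := hX Z.subscheme Z.subschemeι inferInstance ∅ isClopen_empty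
      have hrZ : Set.range Z.subschemeι = {x} := DvrProperLib.range_subscheme_vanishingIdeal T
      have hemp : IsEmpty ↥(pullback Z.subschemeι i : Scheme.{u}) := ⟨fun p ↦ hn ⟨(pullback.snd Z.subschemeι i).base p, by
        rw [← Scheme.Hom.comp_apply, ← pullback.condition]
        exact hrZ.le ⟨(pullback.fst Z.subschemeι i).base p, rfl⟩⟩⟩
      have h₁ := huniq ∅ ⟨isClopen_empty, Set.preimage_empty⟩
      have h₂ := huniq Set.univ ⟨isClopen_univ, Set.eq_empty_of_isEmpty _⟩
      obtain ⟨z, -⟩ : x ∈ Set.range Z.subschemeι := by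
        rw [hrZ]
        exact rfl
      exact (h₂.trans h₁.symm).le (Set.mem_univ z)
    have h := hi.le hxr
    have hxm' : X.toSpecΓ x = mp := hxm
    intro a ha
    show a ∈ mp.asIdeal
    rw [← hxm']
    exact h ha
  refine HenselLib.henselianRing_of_idempotents_free hJ fun C _ _ _ _ ↦ ?_
  let K : Ideal C := J.map (algebraMap Γ(X, ⊤) C)
  refine ⟨fun e he ↦ he.map _, fun e he e' he' hee ↦
    HenselLib.idem_eq_of_sub_mem (HenselLib.map_le_jacobson_bot hJ) he he' (Ideal.Quotient.eq.mp hee),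
    fun d hd ↦ ?_⟩
  obtain ⟨b, rfl⟩ := Ideal.Quotient.mk_surjective d
  let σ := Spec.map (CommRingCat.ofHom (algebraMap Γ(X, ⊤) C))
  let g := pullback.fst X.toSpecΓ σ
  let s := pullback.snd X.toSpecΓ σ
  haveI : IsFinite σ := (IsFinite.SpecMap_iff _).mpr (RingHom.finite_algebraMap.mpr inferInstance)
  haveI : IsFinite g := inferInstanceAs (IsFinite (pullback.fst X.toSpecΓ σ))
  haveI : IsProper s := inferInstanceAs (IsProper (pullback.snd X.toSpecΓ σ))
  haveI : QuasiCompact X.toSpecΓ := inferInstance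
  haveI : IsIso X.toSpecΓ.appTop := by rw [Scheme.toSpecΓ_appTop]; infer_instance
  haveI : IsIso s.appTop := H0Lib.isIso_appTop_baseChange (IsPullback.of_hasPullback X.toSpecΓ σ)
    (RingHom.flat_algebraMap_iff.mpr inferInstance)
  haveI : CompactSpace (pullback X.toSpecΓ σ : Scheme.{u}) := QuasiCompact.compactSpace_of_compactSpace s
  have hs : Function.Surjective s := surjective_of_injective_appTop s s.isClosedMap
    (ConcreteCategory.bijective_of_isIso (C := CommRingCat) s.appTop).1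
  let T := pullback X.toSpecΓ σ
  have hrange : Set.range (pullback.fst g i) = s ⁻¹' PrimeSpectrum.zeroLocus (K : Set C) := by
    rw [Scheme.Pullback.range_fst, hi]
    show (g ≫ X.toSpecΓ) ⁻¹' _ = _
    rw [pullback.condition]
    show s ⁻¹' (PrimeSpectrum.comap (algebraMap Γ(X, ⊤) C) ⁻¹' _) = _
    refine congrArg (s ⁻¹' ·) ?_
    exact (PrimeSpectrum.preimage_comap_zeroLocus (algebraMap Γ(X, ⊤) C) (J : Set Γ(X, ⊤))).trans
      (PrimeSpectrum.zeroLocus_span _).symm
  have hb : ∀ p ∈ PrimeSpectrum.zeroLocus (K : Set C), b * (1 - b) ∈ p.asIdeal := fun p hp ↦ hp (by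
    have := Ideal.Quotient.eq.mp (show Ideal.Quotient.mk K (b * b) = Ideal.Quotient.mk K b by
      rw [map_mul]; exact hd)
    show b * (1 - b) ∈ K
    rw [show b * (1 - b) = -(b * b - b) by ring]
    exact K.neg_mem this)
  have hone : ∀ p : PrimeSpectrum C, b ∉ p.asIdeal ∨ 1 - b ∉ p.asIdeal := fun p ↦ by
    by_contra h
    simp only [not_or, not_not] at h
    exact p.isPrime.ne_top ((Ideal.eq_top_iff_one _).mpr (by simpa using add_mem h.1 h.2))
  let V : Set ↥(pullback g i : Scheme.{u}) :=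
    (pullback.fst g i ≫ s) ⁻¹' (PrimeSpectrum.basicOpen b : Set (PrimeSpectrum C))
  have hV : IsClopen V := by
    refine ⟨?_, (PrimeSpectrum.basicOpen b).isOpen.preimage (Scheme.Hom.continuous _)⟩
    have : V = ((pullback.fst g i ≫ s) ⁻¹' (PrimeSpectrum.basicOpen (1 - b) : Set (PrimeSpectrum C)))ᶜ := by
      ext z
      have hz : (pullback.fst g i ≫ s) z ∈ PrimeSpectrum.zeroLocus (K : Set C) := hrange.le ⟨z, rfl⟩
      generalize hp : (pullback.fst g i ≫ s) z = p at hz
      show (pullback.fst g i ≫ s) z ∈ PrimeSpectrum.basicOpen b ↔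
        ¬ (pullback.fst g i ≫ s) z ∈ PrimeSpectrum.basicOpen (1 - b)
      rw [hp]
      refine ⟨fun h h' ↦ (p.isPrime.mem_or_mem (hb p hz)).elim h h', fun h ↦ ?_⟩
      exact (hone p).resolve_right h
    rw [this]
    exact ((PrimeSpectrum.basicOpen (1 - b)).isOpen.preimage (Scheme.Hom.continuous _)).isClosed_compl
  obtain ⟨U, ⟨hU, hUV⟩, -⟩ := hX _ g inferInstance V hV
  obtain ⟨e', he', hU'⟩ := exists_idempotent_of_isClopen_scheme hU
  let θ := (Scheme.ΓSpecIso (CommRingCat.of C)).inv ≫ s.appTop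
  obtain ⟨ε, hε⟩ := (ConcreteCategory.bijective_of_isIso (C := CommRingCat) θ).2 e'
  have hεi : IsIdempotentElem ε := (ConcreteCategory.bijective_of_isIso (C := CommRingCat) θ).1 (by
    rw [map_mul, hε]; exact he')
  refine ⟨ε, hεi, ?_⟩
  have hmem : ∀ y : T, y ∈ U ↔ ε ∉ (s y).asIdeal := fun y ↦ by
    rw [← hU', ← hε]
    show y ∈ T.basicOpen (s.appTop ((Scheme.ΓSpecIso (CommRingCat.of C)).inv ε)) ↔ _
    rw [← Scheme.preimage_basicOpen_top, basicOpen_eq_of_affine]
    rfl
  refine PrimeSpectrum.basicOpen_injOn_isIdempotentElem (hεi.map _) hd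
    (TopologicalSpace.Opens.ext (Set.ext fun P ↦ ?_))
  obtain ⟨y, hy⟩ := hs (PrimeSpectrum.comap (Ideal.Quotient.mk K) P)
  have hyK : s y ∈ PrimeSpectrum.zeroLocus (K : Set C) := by
    rw [hy]
    intro a ha
    show Ideal.Quotient.mk K a ∈ P.asIdeal
    rw [Ideal.Quotient.eq_zero_iff_mem.mpr ha]
    exact zero_mem _
  obtain ⟨z, rfl⟩ := hrange.ge hyK
  show Ideal.Quotient.mk K ε ∉ P.asIdeal ↔ Ideal.Quotient.mk K b ∉ P.asIdeal
  have h1 := hmem (pullback.fst g i z)
  rw [hy] at h1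
  refine h1.symm.trans ?_
  show z ∈ pullback.fst g i ⁻¹' U ↔ _
  rw [hUV]
  show s (pullback.fst g i z) ∈ PrimeSpectrum.basicOpen b ↔ _
  rw [hy]
  rfl

end

end ProperClopenLib
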