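import Groth.Agent.ProperClopenLib.General
import Groth.Agent.ProperClopenLib.Lifts

/-!
# Open and closed subsets of proper schemes over henselian pairs
-/

set_option autoImplicit false

universe u

open CategoryTheory CategoryTheory.Limits AlgebraicGeometry Opposite TopologicalSpace

namespace ProperClopenLib

noncomputable section

variable {A : Type u} [CommRing A] {X : Scheme.{u}} (f : X ⟶ Spec (CommRingCat.of A)) [IsProper f]
  (I : Ideal A) [HenselianRing A I]

/-- Uniqueness of open and closed lifts. -/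
theorem clopen_ext {U U' : Set X} (hU : IsClopen U) (hU' : IsClopen U')
    (h : ∀ x, f x ∈ PrimeSpectrum.zeroLocus (I : Set A) → (x ∈ U ↔ x ∈ U')) : U = U' := by
  have htop := eq_top_of_closed_fibre f I HenselianRing.jac
    ⟨(U ∩ U') ∪ (Uᶜ ∩ U'ᶜ), (hU.isOpen.inter hU'.isOpen).union
      (hU.compl.isOpen.inter hU'.compl.isOpen)⟩ fun x hx ↦ by
      by_cases hxU : x ∈ U
      · exact Or.inl ⟨hxU, (h x hx).mp hxU⟩
      · exact Or.inr ⟨hxU, fun h' ↦ hxU ((h x hx).mpr h')⟩
  ext x
  rcases htop.ge (trivial : x ∈ (⊤ : X.Opens)) with h' | h'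
  · exact iff_of_true h'.1 h'.2
  · exact iff_of_false h'.1 h'.2

/-- Pieces of the fibres over the zero locus lift to open and closed subsets, over an arbitrary
henselian pair. -/
theorem exists_clopen_lift_henselian (V V' : Set X) (hVc : IsClosed V) (hV'c : IsClosed V')
    (hdis : Disjoint V V') (hun : V ∪ V' = f ⁻¹' PrimeSpectrum.zeroLocus (I : Set A)) :
    ∃ U : Set X, IsClopen U ∧ U ∩ f ⁻¹' PrimeSpectrum.zeroLocus (I : Set A) = V := by
  letI : Algebra A Γ(X, ⊤) := RingHom.toAlgebra (R := A) (S := Γ(X, ⊤)) (Coh.toGlobal f)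
  obtain ⟨B, hB, r, hr, hrV, hrV'⟩ := exists_idempotent_mod_general f I V V' hVc hV'c hdis hun
  haveI := hB
  have hid : IsIdempotentElem (Ideal.Quotient.mk (I.map (algebraMap A B)) r) := by
    show _ * _ = _
    rw [← map_mul]
    exact Ideal.Quotient.eq.mpr hr
  obtain ⟨e, he, her⟩ := (HenselLib.idempotent_bijOn (A := A) (I := I) (B := B)).surjOn hid
  replace her : e - r ∈ I.map (algebraMap A B) := Ideal.Quotient.eq.mp her
  let e' : Γ(X, ⊤) := (e : Γ(X, ⊤))
  have he' : e' * e' = e' := congrArg Subtype.val he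
  have hev : ∀ x : X, f x ∈ PrimeSpectrum.zeroLocus (I : Set A) →
      X.evaluation ⊤ x trivial e' = X.evaluation ⊤ x trivial (r : Γ(X, ⊤)) := fun x hx ↦ by
    have h0 : ∀ z ∈ I.map (algebraMap A B), X.evaluation ⊤ x trivial (z : Γ(X, ⊤)) = 0 := by
      intro z hz
      induction hz using Submodule.span_induction with
      | mem a ha =>
        obtain ⟨j, hj, rfl⟩ := ha
        exact (X.evaluation_eq_zero_iff_notMem_basicOpen (U := ⊤) x trivial _).mpr
          (notMem_basicOpen_toGlobal f I j hj x hx)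
      | zero => exact map_zero _
      | add a b _ _ ha hb => rw [Subalgebra.coe_add, map_add, ha, hb, add_zero]
      | smul a b _ hb => rw [smul_eq_mul, Subalgebra.coe_mul, map_mul, hb, mul_zero]
    have := h0 _ her
    rw [Subalgebra.coe_sub, map_sub, sub_eq_zero] at this
    exact this
  have h01 : ∀ x : X, x ∈ X.basicOpen e' ∨ x ∈ X.basicOpen (1 - e') := fun x ↦ by
    by_contra hn
    rw [not_or] at hn
    have h1 := (X.evaluation_eq_zero_iff_notMem_basicOpen (U := ⊤) x trivial e').mpr hn.1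
    have h2 := (X.evaluation_eq_zero_iff_notMem_basicOpen (U := ⊤) x trivial (1 - e')).mpr hn.2
    rw [map_sub, map_one, h1, sub_zero] at h2
    exact one_ne_zero h2
  have hinf : X.basicOpen e' ⊓ X.basicOpen (1 - e') = ⊥ := by
    rw [← Scheme.basicOpen_mul, mul_sub, mul_one, he', sub_self, Scheme.basicOpen_zero]
  have hWc : IsClopen (X.basicOpen e' : Set X) := by
    refine ⟨?_, (X.basicOpen e').isOpen⟩
    have hc : (X.basicOpen e' : Set X)ᶜ = X.basicOpen (1 - e') := by
      ext z
      exact ⟨(h01 z).resolve_left, fun hz hz' ↦ (hinf.le ⟨hz', hz⟩ : z ∈ (⊥ : X.Opens))⟩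
    exact isOpen_compl_iff.mp (hc ▸ (X.basicOpen (1 - e')).isOpen)
  refine ⟨X.basicOpen e', hWc, Set.ext fun x ↦ ⟨fun ⟨hxe, hx⟩ ↦ ?_, fun hxV ↦ ?_⟩⟩
  · rcases hun.ge hx with h | h
    · exact h
    · exfalso
      have := (X.evaluation_eq_zero_iff_notMem_basicOpen (U := ⊤) x trivial _).mpr (hrV' x h)
      rw [← hev x hx] at this
      exact (X.evaluation_eq_zero_iff_notMem_basicOpen (U := ⊤) x trivial e').mp this hxe
  · have hx : f x ∈ PrimeSpectrum.zeroLocus (I : Set A) := hun.le (Or.inl hxV)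
    refine ⟨?_, hx⟩
    have h1 := (X.evaluation_eq_zero_iff_notMem_basicOpen (U := ⊤) x trivial _).mpr (hrV x hxV)
    rw [map_sub, map_one, sub_eq_zero, ← hev x hx] at h1
    show x ∈ X.basicOpen e'
    rw [← X.evaluation_ne_zero_iff_mem_basicOpen (U := ⊤) x trivial e', ← h1]
    exact one_ne_zero

/-- The base change to the closed subscheme of the ideal has unique lifting of open and closed
subsets. -/
theorem lifts_fst :
    Lifts (pullback.fst f (Spec.map (CommRingCat.ofHom (Ideal.Quotient.mk I)))) := by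
  haveI : IsClosedImmersion (Spec.map (CommRingCat.ofHom (Ideal.Quotient.mk I))) :=
    IsClosedImmersion.spec_of_surjective _ Ideal.Quotient.mk_surjective
  let q := pullback.fst f (Spec.map (CommRingCat.ofHom (Ideal.Quotient.mk I)))
  have hr : Set.range q = f ⁻¹' PrimeSpectrum.zeroLocus (I : Set A) := by
    rw [Scheme.Pullback.range_fst]
    refine congrArg (f ⁻¹' ·) ?_
    show Set.range (PrimeSpectrum.comap (Ideal.Quotient.mk I)) = _
    rw [range_comap_of_surjective _ _ Ideal.Quotient.mk_surjective, Ideal.mk_ker]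
  intro W hW
  obtain ⟨U, hU, hUW⟩ := exists_clopen_lift_henselian f I (q '' W) (q '' Wᶜ)
    (q.isClosedEmbedding.isClosedMap _ hW.isClosed)
    (q.isClosedEmbedding.isClosedMap _ hW.compl.isClosed)
    (Set.disjoint_image_of_injective q.isClosedEmbedding.injective disjoint_compl_right)
    (by rw [← Set.image_union, Set.union_compl_self, Set.image_univ, hr])
  have key : q ⁻¹' U = W := by
    ext p
    rw [Set.mem_preimage, ← q.isClosedEmbedding.injective.mem_set_image (s := W), ← hUW]
    exact ⟨fun h ↦ ⟨h, hr.le ⟨p, rfl⟩⟩, And.left⟩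
  refine ⟨U, ⟨hU, key⟩, fun U' hU' ↦ clopen_ext f I hU'.1 hU fun x hx ↦ ?_⟩
  obtain ⟨p, rfl⟩ := hr.ge hx
  exact iff_of_eq (congrArg (p ∈ ·) (hU'.2.trans key.symm))

end

end ProperClopenLib
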