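import Groth.Agent.ProperClopenLib.Separated
import Groth.Prelude.Def_CohB1
import Mathlib.AlgebraicGeometry.Morphisms.ClosedImmersion

/-!
# The first thickening as the fibres over the zero locus
-/

set_option autoImplicit false

universe u

open CategoryTheory CategoryTheory.Limits AlgebraicGeometry TopologicalSpace

namespace ProperClopenLib

variable {A : Type u} [CommRing A] {X : Scheme.{u}} (f : X ⟶ Spec (CommRingCat.of A)) (I : Ideal A)

instance isClosedImmersion_specQuot (n : ℕ) : IsClosedImmersion (CohB1.specQuot I n) :=
  IsClosedImmersion.spec_of_surjective _ Ideal.Quotient.mk_surjective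

theorem range_thickι_zero :
    Set.range (CohB1.thickι f I 0) = f ⁻¹' PrimeSpectrum.zeroLocus (I : Set A) := by
  show Set.range (pullback.fst f (CohB1.specQuot I 0)) = _
  rw [Scheme.Pullback.range_fst]
  refine congrArg (f ⁻¹' ·) ?_
  show Set.range (PrimeSpectrum.comap (Ideal.Quotient.mk (I ^ (0 + 1)))) = _
  rw [range_comap_of_surjective _ _ Ideal.Quotient.mk_surjective, Ideal.mk_ker]
  simp

end ProperClopenLib
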