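import Groth.Agent.ProperClopenLib.Basic
import Groth.Agent.HenselLib.Criteria

/-!
# Open and closed pieces over a henselian Noetherian pair
-/

set_option autoImplicit false

universe u

open CategoryTheory CategoryTheory.Limits AlgebraicGeometry Opposite TopologicalSpace

namespace ProperClopenLib

open FormalLib

variable {A : Type u} [CommRing A] [IsNoetherianRing A] {X : Scheme.{u}}
  [X.Over (Spec (CommRingCat.of A))]

omit [IsNoetherianRing A] in
theorem hh0_smul (a : A) (x : Coh.HH X (Coh.structureModule X) 0) :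
    (show Γ(X, ⊤) from hh0 (Coh.structureModule X) (a • x)) =
      (show Γ(X, ⊤) from Coh.toGlobal (X ↘ Spec (CommRingCat.of A)) a) *
        (show Γ(X, ⊤) from hh0 (Coh.structureModule X) x) := by
  have h : a • x = hMapA (A := A) (Formal.smulMod A (Coh.structureModule X) a) 0 x := rfl
  rw [h]
  refine (hh0_map (Formal.smulMod A (Coh.structureModule X) a) x).symm.trans ?_
  show (X.presheaf.map _).hom _ * _ = _
  rw [Subsingleton.elim (homOfLE (le_top : (⊤ : X.Opens) ≤ ⊤)).op (𝟙 _), CategoryTheory.Functor.map_id]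
  rfl

variable [IsProper (X ↘ Spec (CommRingCat.of A))]

/-- The global functions of a proper scheme form a finite algebra. -/
theorem finite_toGlobal :
    RingHom.Finite (A := A) (B := Γ(X, ⊤)) (Coh.toGlobal (X ↘ Spec (CommRingCat.of A))) := by
  let φ0 : A →+* Γ(X, ⊤) := Coh.toGlobal (X ↘ Spec (CommRingCat.of A))
  show φ0.Finite
  algebraize [φ0]
  have := finite_HH (A := A) (Coh.structureModule X) (DevissLib.isCoh_structureModule X) 0
  let φ : Coh.HH X (Coh.structureModule X) 0 →ₗ[A] Γ(X, ⊤) :=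
    { toFun := fun x ↦ (hh0 (Coh.structureModule X) x : Γ(X, ⊤))
      map_add' := fun x y ↦ map_add (hh0 (Coh.structureModule X)) x y
      map_smul' := fun a x ↦ hh0_smul a x }
  exact Module.Finite.of_surjective φ (hh0 (Coh.structureModule X)).surjective

/-- The sections glued from `1` and `0` come from a function which is idempotent modulo `I`. -/
theorem exists_idempotent_mod (I : Ideal A) (U V : X.Opens) (hUV : U ⊔ V = ⊤)
    (hdis : ∀ x ∈ U ⊓ V,
      (X ↘ Spec (CommRingCat.of A)) x ∉ PrimeSpectrum.zeroLocus (I : Set A)) :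
    ∃ r : Γ(X, ⊤),
      r * r - r ∈ Ideal.map (Coh.toGlobal (X ↘ Spec (CommRingCat.of A)) : A →+* Γ(X, ⊤)) I ∧
      ∀ x, (X ↘ Spec (CommRingCat.of A)) x ∈ PrimeSpectrum.zeroLocus (I : Set A) →
        (x ∈ U → x ∉ X.basicOpen (1 - r)) ∧ (x ∈ V → x ∉ X.basicOpen r) := by
  let O := Coh.structureModule X
  have hO : Coh.IsCoh O := DevissLib.isCoh_structureModule X
  have : Coh.IsQCoh O := hO.1
  choose s hsU hsV using fun n ↦ exists_quot_section I U V hUV hdis (n + 1)
  have htr : ∀ n, (Formal.modPowTrans I (n + 1) O).app ⊤ (s (n + 1)) = s n := by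
    intro n
    refine sec_ext U V hUV _ _ _ ?_ ?_
    · rw [← QCohLib.app_map, hsU, hsU, qone_trans]
    · rw [← QCohLib.app_map, hsV, hsV]
      exact map_zero ((Formal.modPowTrans I (n + 1) O).app V).hom
  obtain ⟨h, hh⟩ := (toLim_bijective (A := A) I hO 0).2
    ⟨fun n ↦ (hh0 _).symm (s n), fun n ↦ by
      show Sheaf.H.map _ 0 _ = _
      rw [hh0_symm_map, htr]⟩
  obtain ⟨c, hc⟩ := exists_ker_bound I hO 0
  obtain ⟨ξ, hξ⟩ := Submodule.Quotient.mk_surjective _ (h.val (c + 1))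
  let e : Γ(O, ⊤) := hh0 O ξ
  have he : (Formal.modPowπ I (c + 1) O).app ⊤ e = s c := by
    apply (hh0 _).symm.injective
    rw [← hh0_symm_map]
    show Sheaf.H.map _ 0 ((hh0 O).symm (hh0 O ξ)) = _
    rw [AddEquiv.symm_apply_apply]
    have h1 : quotMap I 0 (c + 1) (h.val (c + 1)) = (hh0 _).symm (s c) :=
      congrArg (fun z ↦ (z : Formal.HHlim I O 0).1 c) hh
    rw [← hξ, quotMap_mk] at h1
    exact h1
  let r : Γ(X, ⊤) := e
  have key : (Formal.modPowπ I (c + 1) O).app ⊤ (r • e) = s c := by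
    refine (QCohLib.app_smul (Formal.modPowπ I (c + 1) O) ⊤ r e).trans ?_
    rw [he]
    refine sec_ext U V hUV _ _ _ ?_ ?_
    · rw [Scheme.Modules.map_smul, hsU]
      refine (QCohLib.app_smul (Formal.modPowπ I (c + 1) O) U _ (one U)).symm.trans ?_
      have h1 : (X.presheaf.map (homOfLE (le_top : U ≤ ⊤)).op r) • one U =
          O.presheaf.map (homOfLE (le_top : U ≤ ⊤)).op e :=
        mul_one (X.presheaf.map (homOfLE (le_top : U ≤ ⊤)).op r)
      rw [h1, QCohLib.app_map, he, hsU]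
    · rw [Scheme.Modules.map_smul, hsV, smul_zero]
  let η : Coh.HH X O 0 := (hh0 O).symm (r • e - e)
  have hη : hMapA (A := A) (Formal.modPowπ I (1 + c) O) 0 η = 0 := by
    rw [Nat.add_comm 1 c]
    refine (hh0_symm_map (Formal.modPowπ I (c + 1) O) (r • e - e)).trans ?_
    rw [map_sub, key, he, sub_self]
    exact map_zero _
  have hmem := hc 1 η hη
  have hmap : ∀ z ∈ (I ^ 1 • ⊤ : Submodule A (Coh.HH X O 0)),
      (hh0 O z : Γ(X, ⊤)) ∈
        Ideal.map (Coh.toGlobal (X ↘ Spec (CommRingCat.of A)) : A →+* Γ(X, ⊤)) I := by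
    intro z hz
    refine Submodule.smul_induction_on (p := fun z ↦ (hh0 O z : Γ(X, ⊤)) ∈
      Ideal.map (Coh.toGlobal (X ↘ Spec (CommRingCat.of A)) : A →+* Γ(X, ⊤)) I) hz
      (fun a ha w _ ↦ ?_) fun a b ha hb ↦ ?_
    · rw [pow_one] at ha
      refine (congrArg (· ∈ Ideal.map _ I) (hh0_smul a w)).mpr ?_
      exact Ideal.mul_mem_right _ _ (Ideal.mem_map_of_mem _ ha)
    · rw [map_add]
      exact add_mem ha hb
  have hrr : (hh0 O η : Γ(X, ⊤)) = r * r - r := by
    show hh0 O ((hh0 O).symm (r • e - e)) = _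
    rw [AddEquiv.apply_symm_apply]
    rfl
  refine ⟨r, hrr ▸ hmap η hmem, fun x hx ↦ ⟨fun hxU hxr ↦ ?_, fun hxV hxr ↦ ?_⟩⟩
  · obtain ⟨W, hW, hxW, hWU⟩ := Opens.isBasis_iff_nbhd.mp X.isBasis_affineOpens hxU
    let t : Γ(X, W) := X.presheaf.map (homOfLE (le_top : W ≤ ⊤)).op (1 - r)
    have h0 : (Formal.modPowπ I (c + 1) O).app W t = 0 := by
      show (Formal.modPowπ I (c + 1) O).app W (X.presheaf.map _ (1 - r)) = 0
      rw [map_sub, map_one]
      refine (map_sub ((Formal.modPowπ I (c + 1) O).app W).hom (one W) _).trans (sub_eq_zero.mpr ?_)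
      refine Eq.trans ?_ (QCohLib.app_map _ _ _).symm
      have := congrArg ((Formal.modPow I (c + 1) O).presheaf.map (homOfLE hWU).op) (hsU c)
      rw [qone_map, ← he, QCohLib.map_map'] at this
      exact this.symm
    refine notMem_basicOpen_of_mem_smul_top I c W t ?_ x hxW hx ?_
    · rw [← ker_secMap_modPowπ O I (c + 1) hW]
      exact h0
    · show x ∈ X.basicOpen (X.presheaf.map _ _)
      rw [Scheme.basicOpen_res]
      exact ⟨hxW, hxr⟩
  · obtain ⟨W, hW, hxW, hWV⟩ := Opens.isBasis_iff_nbhd.mp X.isBasis_affineOpens hxV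
    let t : Γ(X, W) := X.presheaf.map (homOfLE (le_top : W ≤ ⊤)).op r
    have h0 : (Formal.modPowπ I (c + 1) O).app W t = 0 := by
      refine (QCohLib.app_map _ _ _).trans ?_
      have := congrArg ((Formal.modPow I (c + 1) O).presheaf.map (homOfLE hWV).op) (hsV c)
      rw [map_zero, ← he, QCohLib.map_map'] at this
      exact this
    refine notMem_basicOpen_of_mem_smul_top I c W t ?_ x hxW hx ?_
    · rw [← ker_secMap_modPowπ O I (c + 1) hW]
      exact h0
    · show x ∈ X.basicOpen (X.presheaf.map _ _)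
      rw [Scheme.basicOpen_res]
      exact ⟨hxW, hxr⟩

/-- Open and closed pieces of the fibres over the zero locus lift uniquely, as soon as a henselian
pair controls the global functions. -/
theorem existsUnique_clopen_of_henselian {A : Type u} [CommRing A] [IsNoetherianRing A]
    {Y : Scheme.{u}} (f : Y ⟶ Spec (CommRingCat.of A)) [IsProper f] (I : Ideal A)
    {R : Type u} [CommRing R] (J : Ideal R) [HenselianRing R J] (ρ : R →+* Γ(Y, ⊤))
    (σ : A →+* R) (hσ : ρ.comp σ = (Coh.toGlobal f : A →+* Γ(Y, ⊤))) (hIJ : I.map σ ≤ J)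
    (hJ : ∀ j ∈ J, ∀ x, f x ∈ PrimeSpectrum.zeroLocus (I : Set A) → x ∉ Y.basicOpen (ρ j))
    (hmeet : ∀ O : Y.Opens, (∀ x, f x ∈ PrimeSpectrum.zeroLocus (I : Set A) → x ∈ O) → O = ⊤)
    (V : Set Y) (hV : V ⊆ f ⁻¹' PrimeSpectrum.zeroLocus (I : Set A))
    (hVo : ∃ O : Y.Opens, (O : Set Y) ∩ f ⁻¹' PrimeSpectrum.zeroLocus (I : Set A) = V)
    (hVc : IsClosed V) :
    ∃! U : Set Y, IsClopen U ∧ U ∩ f ⁻¹' PrimeSpectrum.zeroLocus (I : Set A) = V := by
  classical
  letI : Y.Over (Spec (CommRingCat.of A)) := ⟨f⟩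
  haveI : IsProper (Y ↘ Spec (CommRingCat.of A)) := ‹IsProper f›
  obtain ⟨O, hO⟩ := hVo
  let V' : Y.Opens := ⟨Vᶜ, hVc.isOpen_compl⟩
  have hUV : O ⊔ V' = ⊤ := hmeet _ fun x hx ↦ by
    by_cases h : x ∈ V
    · exact Or.inl (hO.ge h).1
    · exact Or.inr h
  obtain ⟨r, hr, hrx⟩ := exists_idempotent_mod I O V' hUV
    (fun x hx hx' ↦ hx.2 (hO.le ⟨hx.1, hx'⟩))
  letI := ρ.toAlgebra
  have hfin : Module.Finite R Γ(Y, ⊤) := by
    letI := σ.toAlgebra
    letI : Algebra A Γ(Y, ⊤) := (Coh.toGlobal f : A →+* Γ(Y, ⊤)).toAlgebra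
    haveI : IsScalarTower A R Γ(Y, ⊤) := IsScalarTower.of_algebraMap_eq' hσ.symm
    haveI : Module.Finite A Γ(Y, ⊤) := finite_toGlobal
    exact Module.Finite.of_restrictScalars_finite A R Γ(Y, ⊤)
  let K : Ideal Γ(Y, ⊤) := J.map (algebraMap R Γ(Y, ⊤))
  have hK : ∀ k ∈ K, ∀ x, f x ∈ PrimeSpectrum.zeroLocus (I : Set A) → x ∉ Y.basicOpen k := by
    intro k hk x hx
    rw [← Y.evaluation_eq_zero_iff_notMem_basicOpen (U := ⊤) x trivial k]
    induction hk using Submodule.span_induction with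
    | mem a ha =>
      obtain ⟨j, hj, rfl⟩ := ha
      exact (Y.evaluation_eq_zero_iff_notMem_basicOpen (U := ⊤) x trivial _).mpr (hJ j hj x hx)
    | zero => exact map_zero _
    | add a b _ _ ha hb => rw [map_add, ha, hb, add_zero]
    | smul a b _ hb => rw [smul_eq_mul, map_mul, hb, mul_zero]
  have hrK : r * r - r ∈ K := by
    refine Ideal.map_mono (f := algebraMap R Γ(Y, ⊤)) hIJ ?_
    rw [Ideal.map_map]
    show r * r - r ∈ I.map (ρ.comp σ)
    rw [hσ]
    exact hr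
  have hid : IsIdempotentElem (Ideal.Quotient.mk K r) := by
    show _ * _ = _
    rw [← map_mul]
    exact (Ideal.Quotient.eq).mpr hrK
  obtain ⟨e, he, her⟩ := (HenselLib.idempotent_bijOn (A := R) (I := J) (B := Γ(Y, ⊤))).surjOn hid
  replace her : e - r ∈ K := Ideal.Quotient.eq.mp her
  replace he : e * e = e := he
  have h01 : ∀ x : Y, x ∈ Y.basicOpen e ∨ x ∈ Y.basicOpen (1 - e) := fun x ↦ by
    by_contra hn
    rw [not_or] at hn
    have h1 := (Y.evaluation_eq_zero_iff_notMem_basicOpen (U := ⊤) x trivial e).mpr hn.1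
    have h2 := (Y.evaluation_eq_zero_iff_notMem_basicOpen (U := ⊤) x trivial (1 - e)).mpr hn.2
    rw [map_sub, map_one, h1, sub_zero] at h2
    exact one_ne_zero h2
  have hinf : Y.basicOpen e ⊓ Y.basicOpen (1 - e) = ⊥ := by
    rw [← Scheme.basicOpen_mul, mul_sub, mul_one, he, sub_self, Scheme.basicOpen_zero]
  have hWc : IsClopen (Y.basicOpen e : Set Y) := by
    refine ⟨?_, (Y.basicOpen e).isOpen⟩
    have hc : (Y.basicOpen e : Set Y)ᶜ = Y.basicOpen (1 - e) := by
      ext z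
      exact ⟨(h01 z).resolve_left, fun hz hz' ↦ (hinf.le ⟨hz', hz⟩ : z ∈ (⊥ : Y.Opens))⟩
    exact isOpen_compl_iff.mp (hc ▸ (Y.basicOpen (1 - e)).isOpen)
  have hW : ∀ x, f x ∈ PrimeSpectrum.zeroLocus (I : Set A) → (x ∈ Y.basicOpen e ↔ x ∈ V) := by
    intro x hx
    have hev : Y.evaluation ⊤ x trivial e = Y.evaluation ⊤ x trivial r := by
      rw [← sub_eq_zero, ← map_sub]
      exact (Y.evaluation_eq_zero_iff_notMem_basicOpen (U := ⊤) x trivial _).mpr (hK _ her x hx)
    by_cases h : x ∈ V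
    · refine iff_of_true ?_ h
      have h1 := (Y.evaluation_eq_zero_iff_notMem_basicOpen (U := ⊤) x trivial (1 - r)).mpr
        ((hrx x hx).1 (hO.ge h).1)
      rw [← Y.evaluation_ne_zero_iff_mem_basicOpen (U := ⊤) x trivial e, hev]
      rw [map_sub, map_one, sub_eq_zero] at h1
      rw [← h1]
      exact one_ne_zero
    · refine iff_of_false ?_ h
      have h1 := (Y.evaluation_eq_zero_iff_notMem_basicOpen (U := ⊤) x trivial r).mpr
        ((hrx x hx).2 h)
      rw [← hev] at h1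
      exact (Y.evaluation_eq_zero_iff_notMem_basicOpen (U := ⊤) x trivial e).mp h1
  refine ⟨Y.basicOpen e, ⟨hWc, Set.ext fun x ↦ ⟨fun h ↦ (hW x h.2).mp h.1,
    fun h ↦ ⟨(hW x (hV h)).mpr h, hV h⟩⟩⟩, fun U hU ↦ ?_⟩
  have htop : (⟨(U ∩ (Y.basicOpen e : Set Y)) ∪ (Uᶜ ∩ (Y.basicOpen e : Set Y)ᶜ),
      (hU.1.isOpen.inter (Y.basicOpen e).isOpen).union
        (hU.1.compl.isOpen.inter hWc.compl.isOpen)⟩ : Y.Opens) = ⊤ := by
    refine hmeet _ fun x hx ↦ ?_
    by_cases h : x ∈ V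
    · exact Or.inl ⟨(hU.2.ge h).1, (hW x hx).mpr h⟩
    · exact Or.inr ⟨fun hxU ↦ h (hU.2.le ⟨hxU, hx⟩), fun hxe ↦ h ((hW x hx).mp hxe)⟩
  ext x
  rcases htop.ge (trivial : x ∈ (⊤ : Y.Opens)) with h | h
  · exact iff_of_true h.1 h.2
  · exact iff_of_false h.1 h.2

end ProperClopenLib
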