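import Groth.Agent.ProperClopenLib.Lifts
import Mathlib.AlgebraicGeometry.Morphisms.ClosedImmersion
import Mathlib.AlgebraicGeometry.Morphisms.Finite

/-!
# Henselian couples and disjoint unions
-/

set_option autoImplicit false

universe u

open CategoryTheory CategoryTheory.Limits AlgebraicGeometry

namespace ProperClopenLib

variable {ι : Type u} (X X₀ : ι → Scheme.{u}) (i : ∀ j, X₀ j ⟶ X j) [∀ j, IsClosedImmersion (i j)]

omit [∀ j, IsClosedImmersion (i j)] in
theorem eq_of_sigmaι_eq {k j : ι} {a : X k} {b : X j} (h : Sigma.ι X k a = Sigma.ι X j b) : k = j := by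
  rw [← sigmaMk_mk, ← sigmaMk_mk] at h
  exact congrArg Sigma.fst ((sigmaMk X).injective h)

omit [∀ j, IsClosedImmersion (i j)] in
theorem sigmaMap_preimage_range (j : ι) :
    Sigma.ι X j ⁻¹' Set.range (Limits.Sigma.map i) = Set.range (i j) := by
  ext x
  refine ⟨fun ⟨z, hz⟩ ↦ ?_, fun ⟨a, ha⟩ ↦ ⟨Sigma.ι X₀ j a, ?_⟩⟩
  · obtain ⟨⟨k, a⟩, rfl⟩ := (sigmaMk X₀).surjective z
    rw [sigmaMk_mk, ← Scheme.Hom.comp_apply, Limits.Sigma.ι_map, Scheme.Hom.comp_apply] at hz
    have hkj : k = j := by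
      exact eq_of_sigmaι_eq X hz
    subst hkj
    exact ⟨a, (Sigma.ι X k).isOpenEmbedding.injective hz⟩
  · rw [← Scheme.Hom.comp_apply, Limits.Sigma.ι_map, Scheme.Hom.comp_apply, ha]

omit [∀ j, IsClosedImmersion (i j)] in
theorem isPullback_sigmaMap (j : ι) :
    IsPullback (i j) (Sigma.ι X₀ j) (Sigma.ι X j) (Limits.Sigma.map i) := by
  refine IsOpenImmersion.isPullback _ _ _ _ (Limits.Sigma.ι_map _ _) ?_
  apply TopologicalSpace.Opens.ext
  ext z
  refine ⟨fun ⟨x, hx⟩ ↦ ?_, ?_⟩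
  · obtain ⟨⟨k, a⟩, rfl⟩ := (sigmaMk X₀).surjective z
    rw [sigmaMk_mk, ← Scheme.Hom.comp_apply, Limits.Sigma.ι_map, Scheme.Hom.comp_apply] at hx
    have hkj : k = j := by
      exact eq_of_sigmaι_eq X hx.symm
    subst hkj
    exact ⟨a, (sigmaMk_mk X₀ k a).symm⟩
  · rintro ⟨a, rfl⟩
    exact ⟨i j a, by rw [← Scheme.Hom.comp_apply, ← Scheme.Hom.comp_apply, Limits.Sigma.ι_map]⟩

theorem isClosedImmersion_sigmaMap : IsClosedImmersion (Limits.Sigma.map i) := by
  refine IsZariskiLocalAtTarget.of_openCover (P := @IsClosedImmersion) (sigmaOpenCover X) fun j ↦ ?_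
  change IsClosedImmersion (pullback.snd (Limits.Sigma.map i) (Sigma.ι X j))
  exact (MorphismProperty.cancel_left_of_respectsIso @IsClosedImmersion
    (isPullback_sigmaMap X X₀ i j).flip.isoPullback.hom _).mp
    (by rw [IsPullback.isoPullback_hom_snd]; exact ‹∀ j, IsClosedImmersion (i j)› j)

omit [∀ j, IsClosedImmersion (i j)] in
theorem isClosed_range_sigmaι (j : ι) : IsClosed (Set.range (Sigma.ι X j)) := by
  rw [← isOpen_compl_iff]
  have : (Set.range (Sigma.ι X j))ᶜ = ⋃ k ∈ {k | k ≠ j}, Set.range (Sigma.ι X k) := by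
    ext z
    obtain ⟨⟨k, a⟩, rfl⟩ := (sigmaMk X).surjective z
    rw [sigmaMk_mk]
    simp only [Set.mem_compl_iff, Set.mem_iUnion, Set.mem_setOf_eq, exists_prop]
    refine ⟨fun h ↦ ⟨k, fun hk ↦ h (by subst hk; exact ⟨a, rfl⟩), a, rfl⟩, ?_⟩
    rintro ⟨l, hl, b, hb⟩ ⟨c, hc⟩
    exact hl (eq_of_sigmaι_eq X (hb.trans hc.symm))
  rw [this]
  exact isOpen_biUnion fun k _ ↦ (Sigma.ι X k).isOpenEmbedding.isOpen_range

/-- A disjoint union of couples is henselian iff each of them is. -/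
theorem lifts_sigma_iff :
    (∀ (Y : Scheme.{u}) (g : Y ⟶ ∐ X), IsFinite g → Lifts (pullback.fst g (Limits.Sigma.map i))) ↔
    ∀ j : ι, ∀ (Y : Scheme.{u}) (g : Y ⟶ X j), IsFinite g → Lifts (pullback.fst g (i j)) := by
  haveI := isClosedImmersion_sigmaMap X X₀ i
  haveI : ∀ j, IsClosedImmersion (Sigma.ι X j) := fun j ↦
    IsClosedImmersion.of_isPreimmersion _ (isClosed_range_sigmaι X j)
  constructor
  · intro h j Y g hg
    refine Lifts.congr_range (pullback.fst (g ≫ Sigma.ι X j) (Limits.Sigma.map i)).isClosedEmbedding.isEmbedding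
      (pullback.fst g (i j)).isClosedEmbedding.isEmbedding ?_ (h Y (g ≫ Sigma.ι X j) inferInstance)
    rw [Scheme.Pullback.range_fst, Scheme.Pullback.range_fst, ← sigmaMap_preimage_range X X₀ i j]
    rfl
  · intro h Y g hg V hV
    let Yj := fun j ↦ pullback g (Sigma.ι X j)
    let a := fun j ↦ pullback.fst g (Sigma.ι X j)
    let gj := fun j ↦ pullback.snd g (Sigma.ι X j)
    let q := pullback.fst g (Limits.Sigma.map i)
    let qj := fun j ↦ pullback.fst (gj j) (i j)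
    let pj := fun j ↦ pullback.lift (f := g) (g := Limits.Sigma.map i) (qj j ≫ a j)
      (pullback.snd (gj j) (i j) ≫ Sigma.ι X₀ j) (by
        rw [Category.assoc, Category.assoc, Limits.Sigma.ι_map, ← Category.assoc (pullback.snd (gj j) (i j)),
          ← pullback.condition, Category.assoc, pullback.condition])
    have hpj : ∀ j (z : ↥(pullback (gj j) (i j))), q (pj j z) = a j (qj j z) := fun j z ↦ by
      show (pj j ≫ q) z = _
      rw [pullback.lift_fst]; rfl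
    have hcov : ∀ y : Y, ∃ j, y ∈ Set.range (a j) := fun y ↦ by
      obtain ⟨⟨j, x⟩, hx⟩ := (sigmaMk X).surjective (g y)
      refine ⟨j, ?_⟩
      rw [Scheme.Pullback.range_fst]
      exact ⟨x, by rw [← hx, sigmaMk_mk]⟩
    have hdis : ∀ j k y, y ∈ Set.range (a j) → y ∈ Set.range (a k) → j = k := fun j k y hj hk ↦ by
      rw [Scheme.Pullback.range_fst] at hj hk
      obtain ⟨u, hu⟩ := hj
      obtain ⟨v, hv⟩ := hk
      exact eq_of_sigmaι_eq X (hu.trans hv.symm)
    have hR : ∀ j y, a j y ∈ Set.range q ↔ y ∈ Set.range (qj j) := fun j y ↦ by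
      rw [Scheme.Pullback.range_fst, Scheme.Pullback.range_fst, Set.mem_preimage, Set.mem_preimage,
        ← Scheme.Hom.comp_apply, pullback.condition, Scheme.Hom.comp_apply, ← sigmaMap_preimage_range X X₀ i j]
      rfl
    choose U hU huniq using fun j ↦ h j (Yj j) (gj j) inferInstance (pj j ⁻¹' V)
      (hV.preimage (pj j).continuous)
    have hmem : ∀ j y, a j y ∈ (⋃ k, a k '' U k) ↔ y ∈ U j := fun j y ↦ by
      refine ⟨fun hy ↦ ?_, fun hy ↦ Set.mem_iUnion.mpr ⟨j, y, hy, rfl⟩⟩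
      obtain ⟨k, y', hy', he⟩ := Set.mem_iUnion.mp hy
      obtain rfl := hdis k j _ ⟨y', rfl⟩ ⟨y, he.symm⟩
      rwa [← (a k).isOpenEmbedding.injective he]
    refine ⟨⋃ j, a j '' U j, ⟨⟨?_, isOpen_iUnion fun j ↦ (a j).isOpenEmbedding.isOpenMap _ (hU j).1.isOpen⟩,
      ?_⟩, fun U' hU' ↦ ?_⟩
    · rw [← isOpen_compl_iff]
      have : (⋃ j, a j '' U j)ᶜ = ⋃ j, a j '' (U j)ᶜ := by
        ext y
        obtain ⟨j, y', rfl⟩ := hcov y
        refine ⟨fun hy ↦ Set.mem_iUnion.mpr ⟨j, y', fun h' ↦ hy ((hmem j y').mpr h'), rfl⟩, fun hy hy' ↦ ?_⟩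
        obtain ⟨k, z, hz, he⟩ := Set.mem_iUnion.mp hy
        obtain rfl := hdis k j _ ⟨z, rfl⟩ ⟨y', he.symm⟩
        exact hz ((hmem k z).mp (he ▸ hy'))
      rw [this]
      exact isOpen_iUnion fun j ↦ (a j).isOpenEmbedding.isOpenMap _ (hU j).1.isClosed.isOpen_compl
    · ext p
      obtain ⟨j, y, hy⟩ := hcov (q p)
      obtain ⟨z, rfl⟩ := (hR j y).mp (hy ▸ ⟨p, rfl⟩)
      have hp : pj j z = p := q.isClosedEmbedding.injective ((hpj j z).trans hy)
      change q p ∈ (⋃ j, a j '' U j) ↔ p ∈ V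
      rw [← hy, hmem]
      exact (Set.ext_iff.mp (hU j).2 z).trans (by rw [Set.mem_preimage, hp])
    · have hj : ∀ j, a j ⁻¹' U' = U j := fun j ↦ huniq j _ ⟨hU'.1.preimage (a j).continuous, by
        ext z
        show a j (qj j z) ∈ U' ↔ pj j z ∈ V
        rw [← hpj, ← hU'.2]
        rfl⟩
      ext y
      obtain ⟨j, y', rfl⟩ := hcov y
      rw [hmem, ← hj]
      rfl

end ProperClopenLib
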