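import Groth.Agent.ProperClopenLib.HenselianApps
import Groth.Agent.NoethApproxLib.ProperBase

/-!
# Functions on proper schemes separating pieces of the fibres, over arbitrary rings
-/

set_option autoImplicit false

universe u

open CategoryTheory CategoryTheory.Limits AlgebraicGeometry Opposite TopologicalSpace

namespace ProperClopenLib

noncomputable section

theorem exists_isCompact_open_between {X : Scheme.{u}} {K : Set X} (hK : IsCompact K) (W : X.Opens)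
    (h : K ⊆ W) : ∃ O : X.Opens, IsCompact (O : Set X) ∧ K ⊆ O ∧ O ≤ W := by
  choose U hU hxU hUW using fun x : K ↦ exists_isAffineOpen_mem_and_subset (X := X) (h x.2)
  obtain ⟨t, ht⟩ := hK.elim_finite_subcover (fun x : K ↦ (U x : Set X)) (fun x ↦ (U x).isOpen)
    fun x hx ↦ Set.mem_iUnion.mpr ⟨⟨x, hx⟩, hxU ⟨x, hx⟩⟩
  refine ⟨⟨⋃ x ∈ t, (U x : Set X), isOpen_biUnion fun x _ ↦ (U x).isOpen⟩,
    t.finite_toSet.isCompact_biUnion fun x _ ↦ (hU x).isCompact, ht, fun z hz ↦ ?_⟩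
  obtain ⟨x, -, hzx⟩ := Set.mem_iUnion₂.mp hz
  exact hUW x hzx

section Limit

variable {I : Type u} [SmallCategory I] [IsCofiltered I] (D : I ⥤ Scheme.{u}) (c : Cone D)
  (hc : IsLimit c) [∀ {i j : I} (a : i ⟶ j), IsAffineHom (D.map a)]

include hc in
/-- A compatible family of compact closed subsets missing the limit is empty at some stage. -/
theorem exists_eq_empty (Z : ∀ i, Set (D.obj i)) (hZc : ∀ i, IsClosed (Z i))
    (hZk : ∀ i, IsCompact (Z i)) (hmap : ∀ {i j} (a : i ⟶ j), Set.MapsTo (D.map a) (Z i) (Z j))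
    (h : ∀ x : c.pt, ∃ i, c.π.app i x ∉ Z i) : ∃ i, Z i = ∅ := by
  by_contra hne
  push_neg at hne
  obtain ⟨x, hx⟩ := exists_mem_of_isClosed_of_nonempty D c hc Z hZc
    (fun i ↦ Set.nonempty_iff_ne_empty.mpr (hne i).ne_empty) hZk hmap
  obtain ⟨i, hi⟩ := h x
  exact hi (hx i)

include hc in
/-- Such a family inside a quasi-compact open of a stage is eventually empty. -/
theorem exists_inter_eq_empty [∀ i, CompactSpace (D.obj i)] {i₀ : I} (W : (D.obj i₀).Opens)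
    (hW : IsCompact (W : Set (D.obj i₀))) (Z : ∀ i, Set (D.obj i)) (hZc : ∀ i, IsClosed (Z i))
    (hmap : ∀ {i j} (a : i ⟶ j), Set.MapsTo (D.map a) (Z i) (Z j))
    (h : ∀ x : c.pt, c.π.app i₀ x ∈ W → ∃ i, c.π.app i x ∉ Z i) :
    ∃ (i : I) (a : i ⟶ i₀), ∀ x ∈ Z i, D.map a x ∉ W := by
  have this : ∀ j, CompactSpace ((opensDiagram D i₀ W).obj j) := fun j ↦
    isCompact_iff_compactSpace.mp (QuasiCompact.isCompact_preimage (f := D.map j.hom) _ W.2 hW)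
  obtain ⟨j, hj⟩ := exists_eq_empty (opensDiagram D i₀ W) (opensCone D c i₀ W)
    (isLimitOpensCone D c hc i₀ W)
    (fun j ↦ (D.map j.hom ⁻¹ᵁ W).ι ⁻¹' Z j.left) (fun j ↦ (hZc _).preimage (Scheme.Hom.continuous _))
    (fun j ↦ @IsClosed.isCompact _ _ _ (this j) ((hZc _).preimage (Scheme.Hom.continuous _)))
    (fun {j k} a z hz ↦ by
      show (D.map k.hom ⁻¹ᵁ W).ι ((opensDiagram D i₀ W).map a z) ∈ Z k.left
      have := hmap a.left hz
      show ((D.map a.left).resLE _ _ _ ≫ (D.map k.hom ⁻¹ᵁ W).ι) z ∈ Z k.left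
      rw [Scheme.Hom.resLE_comp_ι]
      exact this) (fun x ↦ by
      let x' : c.pt := (c.π.app i₀ ⁻¹ᵁ W).ι x
      obtain ⟨i, hi⟩ := h x' x.2
      obtain ⟨k, u, v, -⟩ := IsCofilteredOrEmpty.cone_objs i i₀
      refine ⟨Over.mk v, fun hz ↦ hi ?_⟩
      have hz' : ((c.π.app k).resLE (D.map v ⁻¹ᵁ W) (c.π.app i₀ ⁻¹ᵁ W) (by
          rw [← Scheme.Hom.comp_preimage, c.w]) ≫ (D.map v ⁻¹ᵁ W).ι) x ∈ Z k := hz
      rw [Scheme.Hom.resLE_comp_ι] at hz'
      have := hmap u hz'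
      rw [← c.w u]
      exact this)
  refine ⟨j.left, j.hom, fun x hx hxW ↦ ?_⟩
  exact Set.eq_empty_iff_forall_notMem.mp hj ⟨x, hxW⟩ hx

end Limit

variable {A : Type u} [CommRing A] {X : Scheme.{u}} (f : X ⟶ Spec (CommRingCat.of A))

/-- Two complementary closed pieces of the fibres over the zero locus of an ideal are separated by
a function lying in a finite algebra and idempotent modulo the ideal. -/
theorem exists_idempotent_mod_general [IsProper f] (I : Ideal A) (V V' : Set X) (hVc : IsClosed V)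
    (hV'c : IsClosed V') (hdis : Disjoint V V')
    (hun : V ∪ V' = f ⁻¹' PrimeSpectrum.zeroLocus (I : Set A)) :
    letI : Algebra A Γ(X, ⊤) := RingHom.toAlgebra (R := A) (S := Γ(X, ⊤)) (Coh.toGlobal f)
    ∃ (B : Subalgebra A Γ(X, ⊤)) (_ : Module.Finite A B) (r : B),
      r * r - r ∈ I.map (algebraMap A B) ∧
      (∀ x ∈ V, x ∉ X.basicOpen (1 - (r : Γ(X, ⊤)))) ∧
      ∀ x ∈ V', x ∉ X.basicOpen (r : Γ(X, ⊤)) := by
  classical
  obtain ⟨J, _, _, DX, DS, φ, πX, πS, hX, hS, haff, hφ, hcomp⟩ :=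
    NoethApproxLib.exists_proper_limit f
  haveI : ∀ {i j : J} (a : i ⟶ j), IsAffineHom (DX.map a) := fun {i j} a ↦ (haff i j a).1
  haveI : ∀ {i j : J} (a : i ⟶ j), IsAffineHom (DS.map a) := fun {i j} a ↦ (haff i j a).2
  haveI : ∀ i, CompactSpace (DS.obj i) := fun i ↦ (hφ i).2.1
  haveI : ∀ i, CompactSpace (DX.obj i) := fun i ↦
    haveI := (hφ i).1
    QuasiCompact.compactSpace_of_compactSpace (φ.app i)
  haveI : IsNoetherianRing (ULift.{u} ℤ) := isNoetherianRing_of_ringEquiv ℤ ULift.ringEquiv.symm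
  haveI : IsLocallyNoetherian (Spec (CommRingCat.of (ULift.{u} ℤ))) :=
    isLocallyNoetherian_Spec.mpr inferInstance
  haveI hSn : ∀ i, IsLocallyNoetherian (DS.obj i) := fun i ↦
    haveI := (hφ i).2.2
    LocallyOfFiniteType.isLocallyNoetherian (specULiftZIsTerminal.from (DS.obj i))
  haveI : ∀ i, IsLocallyNoetherian (DX.obj i) := fun i ↦
    haveI := (hφ i).1
    LocallyOfFiniteType.isLocallyNoetherian (φ.app i)
  let cX : Cone DX := Cone.mk X πX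
  let cS : Cone DS := Cone.mk (Spec (CommRingCat.of A)) πS
  haveI : IsAffine cS.pt := inferInstanceAs (IsAffine (Spec (CommRingCat.of A)))
  obtain ⟨i₁, hi₁⟩ := Scheme.exists_isAffine_of_isLimit DS cS hS
  -- the rings of the stages
  let ψ (i : J) : Γ(DS.obj i, ⊤) →+* A :=
    ((πS.app i).appTop ≫ (Scheme.ΓSpecIso (CommRingCat.of A)).hom).hom
  let g (i : J) : DX.obj i ⟶ Spec Γ(DS.obj i, ⊤) := φ.app i ≫ (DS.obj i).toSpecΓ
  let F (i : J) : Set (DX.obj i) := g i ⁻¹' PrimeSpectrum.zeroLocus (I.comap (ψ i) : Set Γ(DS.obj i, ⊤))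
  have hFc : ∀ i, IsClosed (F i) := fun i ↦
    (PrimeSpectrum.isClosed_zeroLocus _).preimage (g i).continuous
  have hψ : ∀ {i j : J} (a : i ⟶ j), (ψ i).comp (DS.map a).appTop.hom = ψ j := fun {i j} a ↦ by
    show ((DS.map a).appTop ≫ (πS.app i).appTop ≫ _).hom = ((πS.app j).appTop ≫ _).hom
    rw [← Category.assoc, ← Scheme.Hom.comp_appTop, show πS.app i ≫ DS.map a = πS.app j from cS.w a]
  have hFmap : ∀ {i j : J} (a : i ⟶ j), Set.MapsTo (DX.map a) (F i) (F j) := fun {i j} a x hx ↦ by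
    show (DX.map a ≫ φ.app j ≫ (DS.obj j).toSpecΓ) x ∈ PrimeSpectrum.zeroLocus _
    rw [φ.naturality_assoc, Scheme.toSpecΓ_naturality, ← Category.assoc]
    intro b hb
    refine hx (?_ : (DS.map a).appTop.hom b ∈ (I.comap (ψ i) : Set _))
    show (ψ i).comp (DS.map a).appTop.hom b ∈ I
    rw [hψ a]
    exact hb
  have hsq : ∀ i, πX.app i ≫ g i = f ≫ Spec.map (CommRingCat.ofHom (ψ i)) := fun i ↦ by
    show πX.app i ≫ φ.app i ≫ (DS.obj i).toSpecΓ = _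
    rw [← Category.assoc, hcomp, Category.assoc, Scheme.toSpecΓ_naturality]
    congr 1
    rw [← SpecMap_ΓSpecIso_hom, ← Spec.map_comp]
    rfl
  have hsurj : ∀ a ∈ I, ∃ i, ∃ b ∈ I.comap (ψ i), ψ i b = a := fun a ha ↦ by
    haveI : ∀ k : Over i₁, IsAffine ((Over.forget i₁ ⋙ DS).obj k) := fun k ↦
      @isAffine_of_isAffineHom _ _ (DS.map k.hom) (haff _ _ k.hom).2 hi₁
    obtain ⟨k, b, hb⟩ := exists_appTop_π_eq_of_isAffine_of_isLimit (Over.forget i₁ ⋙ DS)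
      (cS.whisker (Over.forget i₁)) ((Functor.Initial.isLimitWhiskerEquiv _ cS).symm hS)
      ((Scheme.ΓSpecIso (CommRingCat.of A)).inv a)
    refine ⟨k.left, b, ?_, ?_⟩
    · show (Scheme.ΓSpecIso (CommRingCat.of A)).hom ((πS.app k.left).appTop b) ∈ I
      rw [show (πS.app k.left).appTop b = _ from hb]
      exact (congrArg (· ∈ I) (congrArg (fun m : CommRingCat.of A ⟶ CommRingCat.of A ↦ m a)
        (Scheme.ΓSpecIso (CommRingCat.of A)).inv_hom_id)).mpr ha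
    · show (Scheme.ΓSpecIso (CommRingCat.of A)).hom ((πS.app k.left).appTop b) = a
      rw [show (πS.app k.left).appTop b = _ from hb]
      exact congrArg (fun m : CommRingCat.of A ⟶ CommRingCat.of A ↦ m a)
        (Scheme.ΓSpecIso (CommRingCat.of A)).inv_hom_id
  have hout : ∀ x : X, f x ∉ PrimeSpectrum.zeroLocus (I : Set A) → ∃ i, πX.app i x ∉ F i := by
    intro x hx
    obtain ⟨a, ha, hxa⟩ := Set.not_subset.mp hx
    obtain ⟨i, b, hb, rfl⟩ := hsurj a ha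
    refine ⟨i, fun h ↦ hxa ?_⟩
    have h' : (f ≫ Spec.map (CommRingCat.ofHom (ψ i))) x ∈
        PrimeSpectrum.zeroLocus (I.comap (ψ i) : Set Γ(DS.obj i, ⊤)) := by rw [← hsq]; exact h
    exact h' hb
  -- quasi-compact opens around the pieces
  haveI : CompactSpace X := QuasiCompact.compactSpace_of_compactSpace f
  obtain ⟨O, hO, hVO, hO'⟩ := exists_isCompact_open_between hVc.isCompact ⟨V'ᶜ, hV'c.isOpen_compl⟩
    (fun x hx ↦ Set.disjoint_left.mp hdis hx)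
  obtain ⟨O', hO'k, hVO', hO''⟩ := exists_isCompact_open_between hV'c.isCompact ⟨Vᶜ, hVc.isOpen_compl⟩
    (fun x hx ↦ Set.disjoint_right.mp hdis hx)
  obtain ⟨a₁, P₁, hP₁, hP₁O⟩ := exists_preimage_eq DX cX hX O hO
  obtain ⟨a₂, P₂, hP₂, hP₂O⟩ := exists_preimage_eq DX cX hX O' hO'k
  obtain ⟨i₀, u₁, u₂, -⟩ := IsCofilteredOrEmpty.cone_objs a₁ a₂
  obtain ⟨i₂, v₀, v₁, -⟩ := IsCofilteredOrEmpty.cone_objs i₀ i₁
  let Q : (DX.obj i₂).Opens := DX.map (v₀ ≫ u₁) ⁻¹ᵁ P₁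
  let Q' : (DX.obj i₂).Opens := DX.map (v₀ ≫ u₂) ⁻¹ᵁ P₂
  have hQ : ∀ x : X, πX.app i₂ x ∈ Q ↔ x ∈ O := fun x ↦ by
    rw [← hP₁O]
    show (πX.app i₂ ≫ DX.map (v₀ ≫ u₁)) x ∈ P₁ ↔ _
    rw [show πX.app i₂ ≫ DX.map (v₀ ≫ u₁) = πX.app a₁ from cX.w _]
    rfl
  have hQ' : ∀ x : X, πX.app i₂ x ∈ Q' ↔ x ∈ O' := fun x ↦ by
    rw [← hP₂O]
    show (πX.app i₂ ≫ DX.map (v₀ ≫ u₂)) x ∈ P₂ ↔ _
    rw [show πX.app i₂ ≫ DX.map (v₀ ≫ u₂) = πX.app a₂ from cX.w _]
    rfl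
  have hQk : IsCompact (Q : Set (DX.obj i₂)) :=
    QuasiCompact.isCompact_preimage (f := DX.map (v₀ ≫ u₁)) _ P₁.2 hP₁
  have hQk' : IsCompact (Q' : Set (DX.obj i₂)) :=
    QuasiCompact.isCompact_preimage (f := DX.map (v₀ ≫ u₂)) _ P₂.2 hP₂
  obtain ⟨k₁, b₁, hk₁⟩ := exists_inter_eq_empty DX cX hX (Q ⊓ Q')
    (hQk.inter_of_isOpen hQk' Q.2 Q'.2) F hFc hFmap fun x hx ↦ hout x fun hxI ↦ by
      rcases hun.ge hxI with h | h
      · exact hO'' ((hQ' x).mp hx.2) h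
      · exact hO' ((hQ x).mp hx.1) h
  haveI : ∀ {k l : Over i₂} (a : k ⟶ l), IsAffineHom ((Over.forget i₂ ⋙ DX).map a) := fun {k l} a ↦
    (haff _ _ a.left).1
  haveI : ∀ k : Over i₂, CompactSpace ((Over.forget i₂ ⋙ DX).obj k) := fun k ↦
    ‹∀ i, CompactSpace (DX.obj i)› k.left
  obtain ⟨⟨k₂, b₂, hk₂⟩⟩ : Nonempty (Σ' (k : J) (b : k ⟶ i₂),
      ∀ x ∈ F k, DX.map b x ∈ Q ∨ DX.map b x ∈ Q') := by
    obtain ⟨k, hk⟩ := exists_eq_empty (Over.forget i₂ ⋙ DX) (cX.whisker (Over.forget i₂))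
      ((Functor.Initial.isLimitWhiskerEquiv _ cX).symm hX)
      (fun k ↦ F k.left ∩ (DX.map k.hom ⁻¹' (Q ⊔ Q' : (DX.obj i₂).Opens))ᶜ)
      (fun k ↦ (hFc _).inter ((Q ⊔ Q').2.preimage (Scheme.Hom.continuous _)).isClosed_compl)
      (fun k ↦ ((hFc _).inter ((Q ⊔ Q').2.preimage (Scheme.Hom.continuous _)).isClosed_compl).isCompact)
      (fun {k l} a z hz ↦ ⟨hFmap a.left hz.1, fun h ↦ hz.2 (by
        show DX.map k.hom z ∈ Q ⊔ Q'
        rw [← Over.w a, DX.map_comp]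
        exact h)⟩)
      fun x ↦ by
        by_cases hxI : f x ∈ PrimeSpectrum.zeroLocus (I : Set A)
        · refine ⟨Over.mk (𝟙 i₂), fun h ↦ h.2 ?_⟩
          show (πX.app i₂ ≫ DX.map (𝟙 i₂)) x ∈ Q ⊔ Q'
          rw [DX.map_id, Category.comp_id]
          rcases hun.ge hxI with h | h
          · exact Or.inl ((hQ x).mpr (hVO h))
          · exact Or.inr ((hQ' x).mpr (hVO' h))
        · obtain ⟨i, hi⟩ := hout x hxI
          obtain ⟨k, u, v, -⟩ := IsCofilteredOrEmpty.cone_objs i i₂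
          refine ⟨Over.mk v, fun h ↦ hi ?_⟩
          rw [← show πX.app k ≫ DX.map u = πX.app i from cX.w u]
          exact hFmap u h.1
    refine ⟨⟨k.left, k.hom, fun x hx ↦ ?_⟩⟩
    by_contra hn
    exact (hk.le ⟨hx, fun h ↦ hn h⟩ : x ∈ (∅ : Set (DX.obj k.left)))
  obtain ⟨n, c₁, c₂, hc⟩ := IsCofiltered.cospan b₁ b₂
  let w : n ⟶ i₂ := c₁ ≫ b₁
  have hsepn : ∀ x ∈ F n, DX.map w x ∈ Q → DX.map w x ∉ Q' := fun x hx h₁ h₂ ↦ by
    refine hk₁ _ (hFmap c₁ hx) ?_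
    rw [← Scheme.Hom.comp_apply, ← DX.map_comp]
    exact ⟨h₁, h₂⟩
  have hcov : ∀ x ∈ F n, DX.map w x ∈ Q ∨ DX.map w x ∈ Q' := fun x hx ↦ by
    have := hk₂ _ (hFmap c₂ hx)
    rwa [← Scheme.Hom.comp_apply, ← DX.map_comp, ← hc] at this
  haveI : IsAffine (DS.obj n) := haveI := hi₁; isAffine_of_isAffineHom (DS.map (w ≫ v₁))
  haveI hT : IsNoetherianRing Γ(DS.obj n, ⊤) :=
    IsLocallyNoetherian.component_noetherian (X := DS.obj n) ⟨⊤, isAffineOpen_top _⟩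
  letI : (DX.obj n).Over (Spec (CommRingCat.of Γ(DS.obj n, ⊤))) := ⟨g n⟩
  haveI : IsProper ((DX.obj n) ↘ Spec (CommRingCat.of Γ(DS.obj n, ⊤))) := by
    haveI := (hφ n).1
    show IsProper (φ.app n ≫ (DS.obj n).toSpecΓ)
    infer_instance
  obtain ⟨r, hr, hrx⟩ := exists_idempotent_mod (A := Γ(DS.obj n, ⊤)) (X := DX.obj n)
    (I.comap (ψ n)) (DX.map w ⁻¹ᵁ Q) (DX.map w ⁻¹ᵁ Q' ⊔ ⟨(F n)ᶜ, (hFc n).isOpen_compl⟩) (by
      refine eq_top_iff.mpr fun x _ ↦ ?_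
      by_cases hx : x ∈ F n
      · rcases hcov x hx with h | h
        · exact Or.inl h
        · exact Or.inr (Or.inl h)
      · exact Or.inr (Or.inr hx))
    fun x hx hxF ↦ by
      rcases hx.2 with h | h
      · exact hsepn x hxF hx.1 h
      · exact h hxF
  -- the finite algebra
  letI : Algebra A Γ(X, ⊤) := RingHom.toAlgebra (R := A) (S := Γ(X, ⊤)) (Coh.toGlobal f)
  let θ : Γ(DX.obj n, ⊤) →+* Γ(X, ⊤) := (πX.app n).appTop.hom
  have hθ : ∀ b : Γ(DS.obj n, ⊤), θ (Coh.toGlobal (g n) b) = algebraMap A Γ(X, ⊤) (ψ n b) := fun b ↦ by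
    have e := congrArg (fun m : X ⟶ Spec Γ(DS.obj n, ⊤) ↦
      m.appTop ((Scheme.ΓSpecIso Γ(DS.obj n, ⊤)).inv b)) (hsq n)
    refine e.trans ?_
    show f.appTop ((Spec.map (CommRingCat.ofHom (ψ n))).appTop ((Scheme.ΓSpecIso _).inv b)) = _
    refine congrArg f.appTop ?_
    exact (congrArg (fun m : Γ(DS.obj n, ⊤) ⟶ Γ(Spec (CommRingCat.of A), ⊤) ↦ m b)
      (Scheme.ΓSpecIso_inv_naturality (CommRingCat.ofHom (ψ n)))).symm
  let τ : Γ(DS.obj n, ⊤) →+* Γ(DX.obj n, ⊤) := Coh.toGlobal (g n)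
  have hτ : τ.Finite := finite_toGlobal (A := Γ(DS.obj n, ⊤)) (X := DX.obj n)
  letI := τ.toAlgebra
  haveI : Module.Finite Γ(DS.obj n, ⊤) Γ(DX.obj n, ⊤) := hτ
  obtain ⟨s, hs⟩ := (inferInstance : Module.Finite Γ(DS.obj n, ⊤) Γ(DX.obj n, ⊤)).fg_top
  let B : Subalgebra A Γ(X, ⊤) := Algebra.adjoin A ((s.image θ : Finset Γ(X, ⊤)) : Set Γ(X, ⊤))
  have hint : ∀ z, IsIntegral A (θ z) := fun z ↦ by
    obtain ⟨q, hq, hqz⟩ := Algebra.IsIntegral.isIntegral (R := Γ(DS.obj n, ⊤)) z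
    refine ⟨q.map (ψ n), hq.map _, ?_⟩
    rw [Polynomial.eval₂_map, show (algebraMap A Γ(X, ⊤)).comp (ψ n) = θ.comp τ from
      RingHom.ext fun b ↦ (hθ b).symm, ← Polynomial.hom_eval₂]
    exact (congrArg θ hqz).trans (map_zero θ)
  have hB : Module.Finite A B := Module.Finite.iff_fg.mpr
    (fg_adjoin_of_finite (Finset.finite_toSet _) fun z hz ↦ by
      obtain ⟨z', -, rfl⟩ := Finset.mem_image.mp hz
      exact hint z')
  have hmem : ∀ z, θ z ∈ B := fun z ↦ by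
    have hz : z ∈ Submodule.span Γ(DS.obj n, ⊤) (s : Set Γ(DX.obj n, ⊤)) := hs ▸ Submodule.mem_top
    induction hz using Submodule.span_induction with
    | mem z hz => exact Algebra.subset_adjoin (Finset.mem_coe.mpr (Finset.mem_image_of_mem _ hz))
    | zero => rw [map_zero]; exact zero_mem _
    | add a b _ _ ha hb => rw [map_add]; exact add_mem ha hb
    | smul b z _ hz =>
      show θ (τ b * z) ∈ B
      rw [map_mul, show θ (τ b) = _ from hθ b]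
      exact mul_mem (B.algebraMap_mem _) hz
  let θ' : Γ(DX.obj n, ⊤) →+* B := θ.codRestrict B.toSubring hmem
  have hθ' : θ'.comp τ = (algebraMap A B).comp (ψ n) := RingHom.ext fun b ↦ Subtype.ext (hθ b)
  refine ⟨B, hB, θ' r, ?_, fun x hx hxr ↦ ?_, fun x hx hxr ↦ ?_⟩
  · rw [← map_mul, ← map_sub]
    have h1 := Ideal.mem_map_of_mem θ' hr
    replace h1 : θ' (r * r - r) ∈ Ideal.map (θ'.comp τ) (I.comap (ψ n)) :=
      (Ideal.map_map τ θ').le h1
    have h2 : (I.comap (ψ n)).map (θ'.comp τ) ≤ I.map (algebraMap A B) := by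
      rw [hθ', ← Ideal.map_map]
      exact Ideal.map_mono Ideal.map_comap_le
    exact h2 h1
  all_goals
    have hxI : f x ∈ PrimeSpectrum.zeroLocus (I : Set A) := hun.le (by first | exact Or.inl hx | exact Or.inr hx)
    have hxF : πX.app n x ∈ F n := by
      show (πX.app n ≫ g n) x ∈ PrimeSpectrum.zeroLocus _
      rw [hsq]
      intro b hb
      exact hxI hb
    have hw : DX.map w (πX.app n x) = πX.app i₂ x := by
      rw [← Scheme.Hom.comp_apply, show πX.app n ≫ DX.map w = πX.app i₂ from cX.w w]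
  · have h1 : (1 : Γ(X, ⊤)) - θ r = θ (1 - r) := by rw [map_sub, map_one]
    have hxr' : x ∈ X.basicOpen (θ (1 - r)) := h1 ▸ hxr
    rw [← Scheme.preimage_basicOpen_top] at hxr'
    refine (hrx _ hxF).1 ?_ hxr'
    show DX.map w (πX.app n x) ∈ Q
    rw [hw]
    exact (hQ x).mpr (hVO hx)
  · have hxr' : x ∈ X.basicOpen (θ r) := hxr
    rw [← Scheme.preimage_basicOpen_top] at hxr'
    refine (hrx _ hxF).2 (Or.inl ?_) hxr'
    show DX.map w (πX.app n x) ∈ Q'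
    rw [hw]
    exact (hQ' x).mpr (hVO' hx)

end

end ProperClopenLib
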