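import Groth.Agent.ProperClopenLib.General
import Groth.Agent.SubmDescLib.StalkSys

/-!
# Idempotents on fibres come from neighbourhoods
-/

set_option autoImplicit false

universe u

open CategoryTheory CategoryTheory.Limits AlgebraicGeometry Opposite TopologicalSpace RichLib.LimBC

namespace ProperClopenLib

noncomputable section

theorem eq_zero_of_idempotent_of_basicOpen_eq_bot {T : Scheme.{u}} {a : Γ(T, ⊤)} (ha : a * a = a)
    (h : T.basicOpen a = ⊥) : a = 0 := by
  have hu : IsUnit (1 - a) := T.toRingedSpace.isUnit_of_isUnit_germ ⊤ _ fun x hx ↦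
    (T.mem_basicOpen _ x hx).1 (by
      by_contra hn
      have h1 := (T.evaluation_eq_zero_iff_notMem_basicOpen (U := ⊤) x trivial (1 - a)).mpr hn
      have h2 := (T.evaluation_eq_zero_iff_notMem_basicOpen (U := ⊤) x trivial a).mpr
        fun hx' ↦ (h.le hx' : x ∈ (⊥ : T.Opens))
      rw [map_sub, map_one, h2, sub_zero] at h1
      exact one_ne_zero h1)
  exact hu.mul_left_eq_zero.mp (by rw [mul_sub, mul_one, ha, sub_self])

theorem idempotent_eq_of_forall {T : Scheme.{u}} {a b : Γ(T, ⊤)} (ha : a * a = a) (hb : b * b = b)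
    (h₁ : T.basicOpen (a * (1 - b)) = ⊥) (h₂ : T.basicOpen (b * (1 - a)) = ⊥) : a = b := by
  have e₁ := eq_zero_of_idempotent_of_basicOpen_eq_bot
    (by linear_combination (1 - b) ^ 2 * ha + a * hb : a * (1 - b) * (a * (1 - b)) = a * (1 - b)) h₁
  have e₂ := eq_zero_of_idempotent_of_basicOpen_eq_bot
    (by linear_combination (1 - a) ^ 2 * hb + b * ha : b * (1 - a) * (b * (1 - a)) = b * (1 - a)) h₂
  linear_combination e₁ - e₂

/-- Sections of an open subscheme are sections of the open it occupies. -/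
theorem exists_section_of_openImmersion {T P X : Scheme.{u}} (g : T ⟶ P) (φ : P ⟶ X)
    [IsOpenImmersion φ] (h : T ⟶ X) (hh : g ≫ φ = h) (V : X.Opens) (hV : φ.opensRange = V)
    (t₀ : Γ(P, ⊤)) :
    ∃ t : Γ(X, V), h.app V t = T.presheaf.map (homOfLE le_top).op (g.appTop t₀) := by
  subst hV hh
  have hpre : φ ⁻¹ᵁ φ.opensRange = ⊤ := φ.preimage_opensRange
  have hiso : IsIso (φ.app φ.opensRange) := φ.isIso_app _ le_rfl
  obtain ⟨t, ht⟩ := (ConcreteCategory.bijective_of_isIso (C := CommRingCat) (φ.app φ.opensRange)).2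
    (P.presheaf.map (homOfLE le_top).op t₀)
  refine ⟨t, ?_⟩
  show g.app (φ ⁻¹ᵁ φ.opensRange) (φ.app φ.opensRange t) = _
  rw [ht]
  exact congrArg (fun m : Γ(P, ⊤) ⟶ Γ(T, g ⁻¹ᵁ φ ⁻¹ᵁ φ.opensRange) ↦ m t₀) (g.naturality _)

set_option backward.isDefEq.respectTransparency false in
/-- An idempotent function on a fibre of a proper morphism comes from a neighbourhood. -/
theorem exists_section_of_idempotent_fibre {X S : Scheme.{u}} (f : X ⟶ S) [IsProper f] (s : S)
    (e : Γ(f.fiber s, ⊤)) (he : IsIdempotentElem e) :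
    ∃ (V : S.Opens) (_ : s ∈ V) (t : Γ(X, f ⁻¹ᵁ V)),
      (f.fiberι s).app (f ⁻¹ᵁ V) t = (f.fiber s).presheaf.map (homOfLE le_top).op e := by
  classical
  obtain ⟨W, hW, hsW, -⟩ := exists_isAffineOpen_mem_and_subset (X := S) (x := s) (U := ⊤) trivial
  let R := Γ(S, W)
  let p : PrimeSpectrum R := hW.primeIdealOf ⟨s, hsW⟩
  let A := Localization.AtPrime p.asIdeal
  let g := pullback.snd f hW.fromSpec
  let N := pb (SubmDescLib.nbhdSys R p) g
  haveI : ∀ {i j : SubmDescLib.Nbhd R p} (a : i ⟶ j), IsAffineHom (N.D.map a) := fun a ↦ N.affine_map a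
  haveI : CompactSpace (pullback f hW.fromSpec : Scheme.{u}) :=
    QuasiCompact.compactSpace_of_compactSpace g
  haveI : QuasiSeparatedSpace (pullback f hW.fromSpec : Scheme.{u}) :=
    quasiSeparatedSpace_of_quasiSeparated g
  haveI := N.compactSpace_obj
  haveI := N.quasiSeparatedSpace_obj
  let fA : N.c.pt ⟶ Spec (CommRingCat.of A) := pullback.snd g (SubmDescLib.locι R p)
  haveI : IsProper fA := inferInstanceAs (IsProper (pullback.snd g (SubmDescLib.locι R p)))
  let pr : N.c.pt ⟶ X := pullback.fst g (SubmDescLib.locι R p) ≫ pullback.fst f hW.fromSpec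
  have hpr : pr ≫ f = fA ≫ SubmDescLib.locι R p ≫ hW.fromSpec := by
    show (pullback.fst g _ ≫ pullback.fst f _) ≫ f = pullback.snd g _ ≫ _
    rw [Category.assoc, pullback.condition, ← Category.assoc, pullback.condition, Category.assoc]
  haveI : IsPreimmersion (SubmDescLib.locι R p) := IsPreimmersion.of_isLocalization p.asIdeal.primeCompl
  haveI : IsPreimmersion pr := inferInstanceAs (IsPreimmersion (_ ≫ _))
  -- the closed point maps to the given point
  let q : PrimeSpectrum A := IsLocalRing.closedPoint A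
  have hqp : SubmDescLib.locι R p q = p := PrimeSpectrum.ext Localization.AtPrime.comap_maximalIdeal
  have hq : (SubmDescLib.locι R p ≫ hW.fromSpec) q = s := by
    rw [Scheme.Hom.comp_apply, hqp]
    exact hW.fromSpec_primeIdealOf ⟨s, hsW⟩
  let κ : CommRingCat.of A ⟶ CommRingCat.of (IsLocalRing.ResidueField A) :=
    CommRingCat.ofHom (IsLocalRing.residue A)
  -- the fibre over the closed point
  obtain ⟨σ, hσ⟩ : ∃ σ : Spec (S.residueField s) ⟶ Spec (CommRingCat.of A),
      σ ≫ SubmDescLib.locι R p ≫ hW.fromSpec = S.fromSpecResidueField s := by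
    letI : Algebra R (S.presheaf.stalk s) := (S.presheaf.germ W s hsW).hom.toAlgebra
    haveI : IsLocalization.AtPrime (S.presheaf.stalk s) p.asIdeal := hW.isLocalization_stalk ⟨s, hsW⟩
    let ε : A ≃ₐ[R] S.presheaf.stalk s := IsLocalization.algEquiv p.asIdeal.primeCompl _ _
    refine ⟨Spec.map (S.residue s) ≫ Spec.map (CommRingCat.ofHom ε.toRingHom), ?_⟩
    rw [Scheme.fromSpecResidueField, Category.assoc, ← hW.fromSpecStalk_eq_fromSpecStalk hsW,
      IsAffineOpen.fromSpecStalk, SubmDescLib.locι]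
    refine congrArg (Spec.map (S.residue s) ≫ ·) ?_
    rw [← Spec.map_comp_assoc]
    refine congrArg (fun m ↦ Spec.map m ≫ hW.fromSpec) ?_
    exact CommRingCat.hom_ext (RingHom.ext fun r ↦ ε.commutes r)
  have hσq : ∀ z, σ z = q := fun z ↦ (SubmDescLib.locι R p ≫ hW.fromSpec).isEmbedding.injective (by
    rw [hq, ← Scheme.Hom.comp_apply, hσ]
    exact Scheme.fromSpecResidueField_apply s z)
  have hq0 : f.fiberι s ≫ f =
      (f.fiberToSpecResidueField s ≫ σ ≫ SubmDescLib.locι R p) ≫ hW.fromSpec := by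
    rw [f.fiber_fac, Category.assoc, Category.assoc, hσ]
  let k : f.fiber s ⟶ N.c.pt := pullback.lift (pullback.lift (f.fiberι s)
      (f.fiberToSpecResidueField s ≫ σ ≫ SubmDescLib.locι R p) hq0)
    (f.fiberToSpecResidueField s ≫ σ) (by
      rw [Category.assoc]
      exact pullback.lift_snd _ _ _)
  have hk : k ≫ pr = f.fiberι s := by
    show k ≫ pullback.fst g _ ≫ pullback.fst f _ = _
    rw [← Category.assoc, pullback.lift_fst, pullback.lift_fst]
  have hkf : k ≫ fA = f.fiberToSpecResidueField s ≫ σ := pullback.lift_snd _ _ _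
  have hkrange : Set.range k = fA ⁻¹' PrimeSpectrum.zeroLocus (IsLocalRing.maximalIdeal A : Set A) := by
    ext y
    constructor
    · rintro ⟨z, rfl⟩
      have : (k ≫ fA) z = q := by rw [hkf]; exact hσq _
      intro a ha
      show a ∈ ((k ≫ fA) z).asIdeal
      rw [this]
      exact ha
    · intro hy
      have hyq : fA y = q := PrimeSpectrum.ext
        ((IsLocalRing.maximalIdeal.isMaximal A).eq_of_le (fA y).isPrime.ne_top hy).symm
      have hys : pr y ∈ Set.range (f.fiberι s) := by
        rw [f.range_fiberι]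
        show (pr ≫ f) y = s
        rw [hpr]
        show (SubmDescLib.locι R p ≫ hW.fromSpec) (fA y) = s
        rw [hyq, hq]
      obtain ⟨z, hz⟩ := hys
      refine ⟨z, pr.isEmbedding.injective ?_⟩
      rw [← Scheme.Hom.comp_apply, hk, hz]
  have hkemb : Topology.IsClosedEmbedding k := by
    refine ⟨Topology.IsEmbedding.of_comp k.continuous pr.continuous ?_, ?_⟩
    · have := (f.fiberι s).isEmbedding
      rw [← hk] at this
      exact this
    · rw [hkrange]
      exact (PrimeSpectrum.isClosed_zeroLocus _).preimage fA.continuous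
  -- the function on the local scheme
  have he' : e * e = e := he
  have h01 : ∀ x, x ∈ (f.fiber s).basicOpen e ∨ x ∈ (f.fiber s).basicOpen (1 - e) := fun x ↦ by
    by_contra hn
    rw [not_or] at hn
    have h1 := ((f.fiber s).evaluation_eq_zero_iff_notMem_basicOpen (U := ⊤) x trivial e).mpr hn.1
    have h2 := ((f.fiber s).evaluation_eq_zero_iff_notMem_basicOpen (U := ⊤) x trivial (1 - e)).mpr hn.2
    rw [map_sub, map_one, h1, sub_zero] at h2
    exact one_ne_zero h2
  have hinf : (f.fiber s).basicOpen e ⊓ (f.fiber s).basicOpen (1 - e) = ⊥ := by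
    rw [← Scheme.basicOpen_mul, mul_sub, mul_one, he', sub_self, Scheme.basicOpen_zero]
  have hcompl : ((f.fiber s).basicOpen e : Set (f.fiber s))ᶜ = (f.fiber s).basicOpen (1 - e) := by
    ext z
    exact ⟨(h01 z).resolve_left, fun hz hz' ↦ (hinf.le ⟨hz', hz⟩ : z ∈ (⊥ : (f.fiber s).Opens))⟩
  obtain ⟨B, -, r, hr, hrU, hrU'⟩ := exists_idempotent_mod_general fA (IsLocalRing.maximalIdeal A)
    (k '' (f.fiber s).basicOpen e) (k '' (f.fiber s).basicOpen (1 - e))
    (hkemb.isClosedMap _ (isOpen_compl_iff.mp (hcompl ▸ ((f.fiber s).basicOpen (1 - e)).isOpen)))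
    (hkemb.isClosedMap _ (hcompl ▸ ((f.fiber s).basicOpen e).isOpen.isClosed_compl))
    (Set.disjoint_image_of_injective hkemb.injective (hcompl ▸ disjoint_compl_right))
    (by rw [← Set.image_union, ← hcompl, Set.union_compl_self, Set.image_univ, hkrange])
  letI : Algebra A Γ(N.c.pt, ⊤) := RingHom.toAlgebra (R := A) (S := Γ(N.c.pt, ⊤)) (Coh.toGlobal fA)
  let r' : Γ(N.c.pt, ⊤) := (r : Γ(N.c.pt, ⊤))
  let z : Γ(f.fiber s, ⊤) := k.appTop r'
  have hkill : ∀ w ∈ (IsLocalRing.maximalIdeal A).map (algebraMap A B),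
      k.appTop (w : Γ(N.c.pt, ⊤)) = 0 := by
    intro w hw
    induction hw using Submodule.span_induction with
    | mem a ha =>
      obtain ⟨j, hj, rfl⟩ := ha
      show (k ≫ fA).appTop ((Scheme.ΓSpecIso (CommRingCat.of A)).inv j) = 0
      rw [hkf]
      have hσ0 : σ.appTop ((Scheme.ΓSpecIso (CommRingCat.of A)).inv j) = 0 := by
        rw [← basicOpen_eq_bot_iff, eq_bot_iff]
        intro x hx
        exfalso
        rw [← Scheme.preimage_basicOpen_top, basicOpen_eq_of_affine] at hx
        have h' : j ∉ (σ x).asIdeal := hx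
        rw [hσq] at h'
        exact h' hj
      rw [Scheme.Hom.comp_appTop, CommRingCat.comp_apply, hσ0, map_zero]
    | zero => exact map_zero _
    | add a b _ _ ha hb => rw [Subalgebra.coe_add, map_add, ha, hb, add_zero]
    | smul a b _ hb => rw [smul_eq_mul, Subalgebra.coe_mul, map_mul, hb, mul_zero]
  have hz : z * z = z := by
    rw [← sub_eq_zero]
    have := hkill _ hr
    rw [Subalgebra.coe_sub, Subalgebra.coe_mul, map_sub, map_mul] at this
    exact this
  have hze : z = e := by
    refine idempotent_eq_of_forall hz he' (eq_bot_iff.mpr fun x hx ↦ ?_) (eq_bot_iff.mpr fun x hx ↦ ?_)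
    · rw [Scheme.basicOpen_mul] at hx
      have h1 : k x ∈ N.c.pt.basicOpen r' := by
        have := hx.1
        rwa [← Scheme.preimage_basicOpen_top] at this
      exact absurd h1 (hrU' _ ⟨x, hx.2, rfl⟩)
    · rw [Scheme.basicOpen_mul] at hx
      have h1 : k x ∈ N.c.pt.basicOpen (1 - r') := by
        have := hx.2
        rwa [show (1 : Γ(f.fiber s, ⊤)) - z = k.appTop (1 - r') by rw [map_sub, map_one],
          ← Scheme.preimage_basicOpen_top] at this
      exact absurd h1 (hrU _ ⟨x, hx.1, rfl⟩)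
  -- spreading out
  obtain ⟨n, t₀, ht₀⟩ := exists_appTop_π_eq_of_isLimit N.D N.c N.hc r'
  let j : (SubmDescLib.Nbhd.opens R p n : Scheme.{u}) ⟶ S :=
    (SubmDescLib.Nbhd.opens R p n).ι ≫ hW.fromSpec
  let φ : N.D.obj n ⟶ X := pullback.fst g (SubmDescLib.Nbhd.opens R p n).ι ≫ pullback.fst f hW.fromSpec
  haveI : IsOpenImmersion φ := inferInstanceAs (IsOpenImmersion (_ ≫ _))
  have sq : IsPullback φ (pullback.snd g (SubmDescLib.Nbhd.opens R p n).ι) f j :=
    (IsPullback.of_hasPullback g _).paste_horiz (IsPullback.of_hasPullback f hW.fromSpec)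
  have hrange : φ.opensRange = f ⁻¹ᵁ j.opensRange := by
    refine TopologicalSpace.Opens.ext ?_
    show Set.range φ = f ⁻¹' Set.range j
    rw [← sq.isoPullback_hom_fst]
    show Set.range (pullback.fst f j ∘ sq.isoPullback.hom) = _
    rw [Set.range_comp, sq.isoPullback.hom.surjective.range_eq, Set.image_univ,
      Scheme.Pullback.range_fst]
  have hsj : s ∈ j.opensRange := by
    refine ⟨⟨p, ?_⟩, ?_⟩
    · rw [SubmDescLib.Nbhd.opens_eq]; exact n.2
    · show hW.fromSpec p = s
      exact hW.fromSpec_primeIdealOf ⟨s, hsW⟩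
  obtain ⟨t, ht⟩ := exists_section_of_openImmersion (k ≫ N.c.π.app n) φ (f.fiberι s) (by
    rw [Category.assoc, ← hk]
    congr 1
    show N.c.π.app n ≫ pullback.fst g _ ≫ pullback.fst f _ = pullback.fst g _ ≫ pullback.fst f _
    rw [← Category.assoc]
    exact congrArg (· ≫ pullback.fst f hW.fromSpec) (pbπ_fst (SubmDescLib.nbhdSys R p) g n)) _ hrange t₀
  refine ⟨j.opensRange, hsj, t, ht.trans ?_⟩
  refine congrArg ((f.fiber s).presheaf.map _) ?_
  exact (congrArg k.appTop ht₀.symm).trans hze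

end

end ProperClopenLib
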