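import Groth.Agent.FormalLib.Main
import Groth.Agent.DevissLib.ClosedImm

/-!
# Open and closed pieces of schemes proper over a complete base
-/

set_option autoImplicit false

universe u

open CategoryTheory CategoryTheory.Limits AlgebraicGeometry Opposite TopologicalSpace

namespace ProperClopenLib

open FormalLib

variable {A : Type u} [CommRing A]

/-- An open containing the fibres over a closed set which meets every nonempty closed set is
everything. -/
theorem eq_top_of_closed_fibre {X : Scheme.{u}} (f : X ⟶ Spec (CommRingCat.of A))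
    [UniversallyClosed f] (I : Ideal A) (hI : I ≤ (⊥ : Ideal A).jacobson) (O : X.Opens)
    (h : ∀ x, f x ∈ PrimeSpectrum.zeroLocus (I : Set A) → x ∈ O) : O = ⊤ := by
  refine eq_top_iff.mpr fun x _ ↦ by_contra fun hx ↦ ?_
  have hcl : IsClosed (f '' (O : Set X)ᶜ) := f.isClosedMap _ O.isOpen.isClosed_compl
  obtain ⟨m, hm, hle⟩ := (f x : PrimeSpectrum A).asIdeal.exists_le_maximal (f x).isPrime.ne_top
  have hsp : (f x : PrimeSpectrum A) ⤳ ⟨m, hm.isPrime⟩ :=
    (PrimeSpectrum.le_iff_specializes _ _).mp hle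
  obtain ⟨z, hz, hfz⟩ := hsp.mem_closed hcl ⟨x, hx, rfl⟩
  refine hz (h z ?_)
  rw [hfz]
  exact hI.trans (sInf_le ⟨bot_le, hm⟩)

variable {X : Scheme.{u}} [X.Over (Spec (CommRingCat.of A))]

/-- An element of `I` vanishes at the points over the zero locus of `I`. -/
theorem evaluation_rhoA_eq_zero (I : Ideal A) {a : A} (ha : a ∈ I) (U : X.Opens) (x : X) (hx : x ∈ U)
    (hI : (X ↘ Spec (CommRingCat.of A)) x ∈ PrimeSpectrum.zeroLocus (I : Set A)) :
    X.evaluation U x hx (rhoA A U a) = 0 := by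
  rw [Scheme.evaluation_eq_zero_iff_notMem_basicOpen]
  intro h
  have h1 : x ∈ X.basicOpen (Coh.toGlobal (X ↘ Spec (CommRingCat.of A)) a) :=
    (X.basicOpen_res _ _ ▸ h : x ∈ U ⊓ _).2
  have h2 : x ∈ (X ↘ Spec (CommRingCat.of A)) ⁻¹ᵁ
      (Spec (CommRingCat.of A)).basicOpen ((Scheme.ΓSpecIso (CommRingCat.of A)).inv a) := by
    rw [Scheme.preimage_basicOpen]
    exact h1
  rw [basicOpen_eq_of_affine', Iso.inv_hom_id_apply] at h2
  exact h2 (hI ha)

/-- A function as a section of the structure module. -/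
def ofR (U : X.Opens) (r : Γ(X, U)) : Sec A (Coh.structureModule X) U := r

/-- A section of the structure module as a function. -/
def toR {U : X.Opens} (t : Sec A (Coh.structureModule X) U) : Γ(X, U) := t

theorem smul_ofR (U : X.Opens) (a : A) (r : Γ(X, U)) :
    a • ofR (A := A) U r = ofR U (rhoA A U a * r) := rfl

theorem toR_smul (U : X.Opens) (a : A) (t : Sec A (Coh.structureModule X) U) :
    toR (a • t) = rhoA A U a * toR t := rfl

theorem toR_add (U : X.Opens) (s t : Sec A (Coh.structureModule X) U) :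
    toR (s + t) = toR s + toR t := rfl

/-- Functions in `I ^ n · Γ(U)` with `n ≥ 1` vanish at the points over the zero locus of `I`. -/
theorem notMem_basicOpen_of_mem_smul_top (I : Ideal A) (n : ℕ) (U : X.Opens) (r : Γ(X, U))
    (hr : ofR (A := A) U r ∈
      (I ^ (n + 1) • ⊤ : Submodule A (Sec A (Coh.structureModule X) U)))
    (x : X) (hx : x ∈ U)
    (hI : (X ↘ Spec (CommRingCat.of A)) x ∈ PrimeSpectrum.zeroLocus (I : Set A)) :
    x ∉ X.basicOpen r := by
  rw [← X.evaluation_eq_zero_iff_notMem_basicOpen x hx]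
  refine Submodule.smul_induction_on (p := fun (t : Sec A (Coh.structureModule X) U) ↦
    X.evaluation U x hx (toR t) = 0) hr (fun a ha t _ ↦ ?_) fun a b ha hb ↦ ?_
  · rw [toR_smul, map_mul,
      evaluation_rhoA_eq_zero I (Ideal.pow_le_self n.succ_ne_zero ha) U x hx hI, zero_mul]
  · rw [toR_add, map_add, ha, hb, add_zero]

variable [IsNoetherianRing A]

/-- Over an affine open avoiding the zero locus of `I`, the quotients by powers of `I` vanish. -/
theorem smul_top_eq_top (I : Ideal A) (n : ℕ) {U : X.Opens} (hU : IsAffineOpen U)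
    (h : ∀ x ∈ U, (X ↘ Spec (CommRingCat.of A)) x ∉ PrimeSpectrum.zeroLocus (I : Set A)) :
    (I ^ n • ⊤ : Submodule A (Sec A (Coh.structureModule X) U)) = ⊤ := by
  have h1 : Ideal.map (rhoA A U) I = ⊤ := by
    by_contra hne
    obtain ⟨m, hm, hle⟩ := Ideal.exists_le_maximal _ hne
    let p : Spec Γ(X, U) := ⟨m, hm.isPrime⟩
    let x := hU.fromSpec p
    have hx : x ∈ U := hU.range_fromSpec.subset (Set.mem_range_self p)
    refine h x hx fun a ha ↦ ?_
    by_contra hna
    have h2 : x ∈ (X ↘ Spec (CommRingCat.of A)) ⁻¹ᵁ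
        (Spec (CommRingCat.of A)).basicOpen ((Scheme.ΓSpecIso (CommRingCat.of A)).inv a) := by
      rw [basicOpen_eq_of_affine', Iso.inv_hom_id_apply]
      exact hna
    rw [Scheme.preimage_basicOpen] at h2
    have h3 : x ∈ X.basicOpen (rhoA A U a) := by
      show x ∈ X.basicOpen (X.presheaf.map _ _)
      rw [Scheme.basicOpen_res]
      exact ⟨hx, h2⟩
    have h4 : p ∈ hU.fromSpec ⁻¹ᵁ X.basicOpen (rhoA A U a) := h3
    rw [hU.fromSpec_preimage_basicOpen] at h4
    exact h4 (hle (Ideal.mem_map_of_mem _ ha))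
  have h5 : Ideal.map (rhoA A U) (I ^ n) = ⊤ := by rw [Ideal.map_pow, h1, ← Ideal.one_eq_top, one_pow]
  refine eq_top_iff.mpr fun t _ ↦ ?_
  have key : ∀ r ∈ Ideal.map (rhoA A U) (I ^ n), ∀ t : Γ(X, U),
      ofR (A := A) U (r * t) ∈
        (I ^ n • ⊤ : Submodule A (Sec A (Coh.structureModule X) U)) := by
    intro r hr
    induction hr using Submodule.span_induction with
    | mem r hr =>
      obtain ⟨a, ha, rfl⟩ := hr
      exact fun t ↦ by
        rw [← smul_ofR]
        exact Submodule.smul_mem_smul ha trivial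
    | zero => intro t; rw [zero_mul]; exact zero_mem _
    | add x y _ _ hx hy =>
      intro t
      rw [add_mul]
      exact add_mem (hx t) (hy t)
    | smul c r _ hr => intro t; rw [smul_eq_mul, mul_assoc, mul_left_comm]; exact hr (c * t)
  have h6 := key 1 (h5 ▸ Submodule.mem_top) (toR t)
  rwa [one_mul] at h6

/-- The unit section of the structure module. -/
def one (W : X.Opens) : Γ(Coh.structureModule X, W) := (1 : Γ(X, W))

theorem one_map {W W' : X.Opens} (i : W ⟶ W') :
    (Coh.structureModule X).presheaf.map i.op (one W') = one W :=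
  map_one (X.presheaf.map i.op).hom

/-- The section `π(1)` of `O / I ^ n`. -/
noncomputable def qone (I : Ideal A) (n : ℕ) (W : X.Opens) :
    Γ(Formal.modPow I n (Coh.structureModule X), W) :=
  (Formal.modPowπ I n (Coh.structureModule X)).app W (one W)

theorem qone_map (I : Ideal A) (n : ℕ) {W W' : X.Opens} (i : W ⟶ W') :
    (Formal.modPow I n (Coh.structureModule X)).presheaf.map i.op (qone I n W') = qone I n W := by
  refine (QCohLib.app_map _ i _).symm.trans ?_
  exact congrArg _ (one_map i)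

theorem qone_trans (I : Ideal A) (n : ℕ) (W : X.Opens) :
    (Formal.modPowTrans I n (Coh.structureModule X)).app W (qone I (n + 1) W) = qone I n W :=
  congrArg (fun φ : Coh.structureModule X ⟶ Formal.modPow I n (Coh.structureModule X) ↦
    φ.app W (one W)) (Formal.modPowπ_trans I n (Coh.structureModule X))

/-- The quotients by powers of `I` have no sections away from the zero locus of `I`. -/
theorem quot_eq_zero (I : Ideal A) (n : ℕ) (U : X.Opens)
    (h : ∀ x ∈ U, (X ↘ Spec (CommRingCat.of A)) x ∉ PrimeSpectrum.zeroLocus (I : Set A))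
    (t : Γ(Formal.modPow I n (Coh.structureModule X), U)) : t = 0 := by
  have : Coh.IsQCoh (Coh.structureModule X) := QCohLib.isQCoh_unit
  choose W hW hpW hWle using fun p : ↥U ↦ Opens.isBasis_iff_nbhd.mp X.isBasis_affineOpens p.2
  refine TopCat.Sheaf.eq_of_locally_eq'
    ((QCohLib.toAbF X).obj (Formal.modPow I n (Coh.structureModule X)) :
      TopCat.Sheaf AddCommGrpCat _)
    W U (fun p ↦ homOfLE (hWle p))
    (fun p hp ↦ Opens.mem_iSup.mpr ⟨⟨p, hp⟩, hpW ⟨p, hp⟩⟩) _ _ fun p ↦ ?_
  refine Eq.trans ?_ (map_zero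
    ((Formal.modPow I n (Coh.structureModule X)).presheaf.map (homOfLE (hWle p)).op).hom).symm
  obtain ⟨r, hr⟩ := secMap_modPowπ_surjective (A := A) (Coh.structureModule X) I n (hW p)
    (toSec A _ _ ((Formal.modPow I n (Coh.structureModule X)).presheaf.map (homOfLE (hWle p)).op t))
  refine hr.symm.trans (secMap_modPowπ_eq_zero (Coh.structureModule X) I n _ ?_)
  rw [smul_top_eq_top I n (hW p) fun x hx ↦ h x (hWle p hx)]
  trivial

omit [IsNoetherianRing A] in
/-- The top open is terminal. -/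
noncomputable def topTerm : IsTerminal (⊤ : X.Opens) := IsTerminal.ofUnique _

/-- Degree zero cohomology as global sections. -/
@[irreducible] noncomputable def hh0 (N : X.Modules) : Coh.HH X N 0 ≃+ Γ(N, ⊤) :=
  (Sheaf.H.equiv₀ (Coh.toAb N) topTerm : _)

unseal hh0 in
theorem hh0_map {N N' : X.Modules} (φ : N ⟶ N') (x : Coh.HH X N 0) :
    φ.app ⊤ (hh0 N x) = hh0 N' (Sheaf.H.map ((SheafOfModules.toSheaf _).map φ) 0 x) :=
  Sheaf.H.equiv₀_naturality topTerm ((SheafOfModules.toSheaf _).map φ) x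

theorem hh0_symm_map {N N' : X.Modules} (φ : N ⟶ N') (t : Γ(N, ⊤)) :
    Sheaf.H.map ((SheafOfModules.toSheaf _).map φ) 0 ((hh0 N).symm t) =
      (hh0 N').symm (φ.app ⊤ t) := by
  apply (hh0 N').injective
  rw [AddEquiv.apply_symm_apply, ← hh0_map, AddEquiv.apply_symm_apply]

section Glue

variable (I : Ideal A) (U V : X.Opens) (hUV : U ⊔ V = ⊤)
  (hdis : ∀ x ∈ U ⊓ V, (X ↘ Spec (CommRingCat.of A)) x ∉ PrimeSpectrum.zeroLocus (I : Set A))

include hUV in
omit [IsNoetherianRing A] in
theorem sec_ext (N : X.Modules) (s t : Γ(N, ⊤))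
    (h₁ : N.presheaf.map (homOfLE (le_top : U ≤ ⊤)).op s =
      N.presheaf.map (homOfLE (le_top : U ≤ ⊤)).op t)
    (h₂ : N.presheaf.map (homOfLE (le_top : V ≤ ⊤)).op s =
      N.presheaf.map (homOfLE (le_top : V ≤ ⊤)).op t) : s = t :=
  TopCat.Sheaf.eq_of_locally_eq' ((QCohLib.toAbF X).obj N : TopCat.Sheaf AddCommGrpCat _)
    (fun b ↦ cond b U V) ⊤ (fun _ ↦ homOfLE le_top)
    (by rw [← hUV, iSup_bool_eq]; rfl) s t fun b ↦ by
      cases b
      · exact h₂
      · exact h₁

include hUV hdis in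
theorem exists_quot_section (n : ℕ) : ∃ s : Γ(Formal.modPow I n (Coh.structureModule X), ⊤),
    (Formal.modPow I n (Coh.structureModule X)).presheaf.map (homOfLE (le_top : U ≤ ⊤)).op s =
        qone I n U ∧
      (Formal.modPow I n (Coh.structureModule X)).presheaf.map (homOfLE (le_top : V ≤ ⊤)).op s = 0 := by
  let sf : ∀ b : Bool, Γ(Formal.modPow I n (Coh.structureModule X), cond b U V) := fun b ↦
    match b with
    | true => qone I n U
    | false => 0
  obtain ⟨s, hs, -⟩ := TopCat.Sheaf.existsUnique_gluing'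
    ((QCohLib.toAbF X).obj (Formal.modPow I n (Coh.structureModule X)) :
      TopCat.Sheaf AddCommGrpCat _)
    (fun b ↦ cond b U V) ⊤ (fun _ ↦ homOfLE le_top) (by rw [← hUV, iSup_bool_eq]; rfl) sf
    (fun b b' ↦ by
      have hz := quot_eq_zero I n (U ⊓ V) hdis
      have hz' := quot_eq_zero I n (V ⊓ U) (fun x hx ↦ hdis x ⟨hx.2, hx.1⟩)
      match b, b' with
      | true, true => rfl
      | false, false => rfl
      | true, false => exact (hz _).trans (hz _).symm
      | false, true => exact (hz' _).trans (hz' _).symm)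
  exact ⟨s, hs true, hs false⟩

set_option maxHeartbeats 200000 in
include hUV hdis in
theorem exists_idempotent [IsProper (X ↘ Spec (CommRingCat.of A))] [IsAdicComplete I A] :
    ∃ e : Γ(X, ⊤), e * e = e ∧
      ∀ n, (Formal.modPow I (n + 1) (Coh.structureModule X)).presheaf.map
          (homOfLE (le_top : U ≤ ⊤)).op
          ((Formal.modPowπ I (n + 1) (Coh.structureModule X)).app ⊤ e) = qone I (n + 1) U ∧
        (Formal.modPow I (n + 1) (Coh.structureModule X)).presheaf.map
          (homOfLE (le_top : V ≤ ⊤)).op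
          ((Formal.modPowπ I (n + 1) (Coh.structureModule X)).app ⊤ e) = 0 := by
  choose s hsU hsV using fun n ↦ exists_quot_section I U V hUV hdis (n + 1)
  let O := Coh.structureModule X
  have htr : ∀ n, (Formal.modPowTrans I (n + 1) O).app ⊤ (s (n + 1)) = s n := by
    intro n
    refine sec_ext U V hUV _ _ _ ?_ ?_
    · rw [← QCohLib.app_map, hsU, hsU, qone_trans]
    · rw [← QCohLib.app_map, hsV, hsV]
      exact map_zero ((Formal.modPowTrans I (n + 1) O).app V).hom
  have hbij := toHHlim_bijective (A := A) (X := X) I (M := O) (DevissLib.isCoh_structureModule X) 0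
  obtain ⟨ξ, hξ⟩ := hbij.2 ⟨fun n ↦ (hh0 _).symm (s n), fun n ↦ by
    show Sheaf.H.map _ 0 _ = _
    rw [hh0_symm_map, htr]⟩
  let e : Γ(O, ⊤) := hh0 O ξ
  have he : ∀ n, (Formal.modPowπ I (n + 1) O).app ⊤ e = s n := by
    intro n
    apply (hh0 _).symm.injective
    rw [← hh0_symm_map]
    show Sheaf.H.map _ 0 ((hh0 O).symm (hh0 O ξ)) = _
    rw [(hh0 O).symm_apply_apply]
    exact congrArg (fun z ↦ (z : Formal.HHlim I O 0).1 n) hξ
  let r : Γ(X, ⊤) := e
  have key : ∀ n, (Formal.modPowπ I (n + 1) O).app ⊤ (r • e) = s n := by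
    intro n
    refine (QCohLib.app_smul (Formal.modPowπ I (n + 1) O) ⊤ r e).trans ?_
    rw [he]
    refine sec_ext U V hUV _ _ _ ?_ ?_
    · rw [Scheme.Modules.map_smul, hsU]
      refine (QCohLib.app_smul (Formal.modPowπ I (n + 1) O) U _ (one U)).symm.trans ?_
      have h1 : (X.presheaf.map (homOfLE (le_top : U ≤ ⊤)).op r) • one U =
          O.presheaf.map (homOfLE (le_top : U ≤ ⊤)).op e :=
        mul_one (X.presheaf.map (homOfLE (le_top : U ≤ ⊤)).op r)
      rw [h1, QCohLib.app_map, he, hsU]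
    · rw [Scheme.Modules.map_smul, hsV, smul_zero]
  have h2 : (hh0 O).symm (r • e) = (hh0 O).symm e := by
    apply hbij.1
    apply Subtype.ext
    funext n
    refine (hh0_symm_map _ (r • e)).trans (Eq.trans ?_ (hh0_symm_map _ e).symm)
    rw [key, he]
  have h3 : r • e = e := (hh0 O).symm.injective h2
  exact ⟨r, h3, fun n ↦ ⟨by rw [he, hsU], by rw [he, hsV]⟩⟩

end Glue

variable [IsProper (X ↘ Spec (CommRingCat.of A))]

/-- **Open and closed pieces of the fibres over the zero locus lift**, over a complete base. -/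
theorem exists_clopen_lift (I : Ideal A) [IsAdicComplete I A] (U V : X.Opens)
    (hcov : ∀ x, (X ↘ Spec (CommRingCat.of A)) x ∈ PrimeSpectrum.zeroLocus (I : Set A) →
      x ∈ U ∨ x ∈ V)
    (hdis : ∀ x ∈ U ⊓ V,
      (X ↘ Spec (CommRingCat.of A)) x ∉ PrimeSpectrum.zeroLocus (I : Set A)) :
    ∃ W : X.Opens, IsClosed (W : Set X) ∧
      ∀ x, (X ↘ Spec (CommRingCat.of A)) x ∈ PrimeSpectrum.zeroLocus (I : Set A) →
        (x ∈ W ↔ x ∈ U) := by
  have hUV : U ⊔ V = ⊤ :=
    eq_top_of_closed_fibre _ I (IsAdicComplete.le_jacobson_bot I) _ fun x hx ↦ hcov x hx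
  obtain ⟨e, hee, he⟩ := exists_idempotent I U V hUV hdis
  have : Coh.IsQCoh (Coh.structureModule X) := QCohLib.isQCoh_unit
  have h01 : ∀ x : X, x ∈ X.basicOpen e ∨ x ∈ X.basicOpen (1 - e) := fun x ↦ by
    by_contra hn
    rw [not_or] at hn
    have h1 := (X.evaluation_eq_zero_iff_notMem_basicOpen (U := ⊤) x trivial e).mpr hn.1
    have h2 := (X.evaluation_eq_zero_iff_notMem_basicOpen (U := ⊤) x trivial (1 - e)).mpr hn.2
    rw [map_sub, map_one, h1, sub_zero] at h2
    exact one_ne_zero h2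
  have hinf : X.basicOpen e ⊓ X.basicOpen (1 - e) = ⊥ := by
    rw [← Scheme.basicOpen_mul, mul_sub, mul_one, hee, sub_self, Scheme.basicOpen_zero]
  refine ⟨X.basicOpen e, ?_, fun x hx ↦ ?_⟩
  · have hc : (X.basicOpen e : Set X)ᶜ = X.basicOpen (1 - e) := by
      ext y
      exact ⟨(h01 y).resolve_left, fun hy hy' ↦ (hinf.le ⟨hy', hy⟩ : y ∈ (⊥ : X.Opens))⟩
    exact isOpen_compl_iff.mp (hc ▸ (X.basicOpen (1 - e)).isOpen)
  · have hk : ∀ (W : X.Opens) (hW : IsAffineOpen W) (r : Γ(X, W)), x ∈ W →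
        (Formal.modPowπ I (0 + 1) (Coh.structureModule X)).app W r = 0 → x ∉ X.basicOpen r := by
      intro W hW r hxW hr
      refine notMem_basicOpen_of_mem_smul_top I 0 W r ?_ x hxW hx
      rw [← ker_secMap_modPowπ (Coh.structureModule X) I (0 + 1) hW]
      exact hr
    constructor
    · intro hxe
      refine (hcov x hx).resolve_right fun hxV ↦ ?_
      obtain ⟨W, hW, hxW, hWV⟩ := Opens.isBasis_iff_nbhd.mp X.isBasis_affineOpens hxV
      refine hk W hW (X.presheaf.map (homOfLE (le_top : W ≤ ⊤)).op e) hxW ?_ ?_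
      · refine (QCohLib.app_map _ _ _).trans ?_
        have := congrArg ((Formal.modPow I (0 + 1) (Coh.structureModule X)).presheaf.map
          (homOfLE hWV).op) (he 0).2
        rw [map_zero, QCohLib.map_map'] at this
        exact this
      · rw [Scheme.basicOpen_res]
        exact ⟨hxW, hxe⟩
    · intro hxU
      refine (h01 x).resolve_right fun hxe ↦ ?_
      obtain ⟨W, hW, hxW, hWU⟩ := Opens.isBasis_iff_nbhd.mp X.isBasis_affineOpens hxU
      refine hk W hW (X.presheaf.map (homOfLE (le_top : W ≤ ⊤)).op (1 - e)) hxW ?_ ?_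
      · rw [map_sub, map_one]
        refine (map_sub ((Formal.modPowπ I (0 + 1) (Coh.structureModule X)).app W).hom (one W)
          _).trans (sub_eq_zero.mpr ?_)
        refine Eq.trans ?_ (QCohLib.app_map _ _ _).symm
        have := congrArg ((Formal.modPow I (0 + 1) (Coh.structureModule X)).presheaf.map
          (homOfLE hWU).op) (he 0).1
        rw [qone_map, QCohLib.map_map'] at this
        exact this.symm
      · rw [Scheme.basicOpen_res]
        exact ⟨hxW, hxe⟩

end ProperClopenLib
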