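import Groth.Agent.ProperClopenLib.Lifts
import Mathlib.RingTheory.Spectrum.Prime.Topology

/-!
# Lifting open and closed subsets along a closed subset of a spectrum
-/

set_option autoImplicit false

universe u

open PrimeSpectrum

namespace ProperClopenLib

variable {B C : Type u} [CommRing B] [CommRing C]

theorem basicOpen_injective {e e' : B} (he : IsIdempotentElem e) (he' : IsIdempotentElem e')
    (h : (basicOpen e : Set (PrimeSpectrum B)) = basicOpen e') : e = e' :=
  basicOpen_injOn_isIdempotentElem he he' (SetLike.coe_injective h)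

theorem exists_idempotent_of_isClopen {U : Set (PrimeSpectrum B)} (hU : IsClopen U) :
    ∃ e : B, IsIdempotentElem e ∧ U = basicOpen e :=
  exists_idempotent_basicOpen_eq_of_isClopen hU

theorem isClopen_basicOpen_of_isIdempotentElem {e : B} (he : IsIdempotentElem e) :
    IsClopen (basicOpen e : Set (PrimeSpectrum B)) :=
  isClopen_iff.mpr ⟨e, he, rfl⟩

/-- Open and closed subsets lift uniquely along a map of spectra iff idempotents do. -/
theorem lifts_comap_iff (φ : B →+* C) :
    Lifts (PrimeSpectrum.comap φ) ↔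
      Set.BijOn φ {e : B | IsIdempotentElem e} {e | IsIdempotentElem e} := by
  have hpre : ∀ e : B, PrimeSpectrum.comap φ ⁻¹' (basicOpen e : Set (PrimeSpectrum B)) =
      (basicOpen (φ e) : Set (PrimeSpectrum C)) := fun e ↦
    congrArg SetLike.coe (comap_basicOpen φ e)
  refine ⟨fun h ↦ ⟨fun e he ↦ he.map φ, fun e he e' he' hee ↦ ?_, fun d hd ↦ ?_⟩, fun h V hV ↦ ?_⟩
  · obtain ⟨U, -, huniq⟩ := h _ (isClopen_basicOpen_of_isIdempotentElem (he.map φ))
    exact basicOpen_injective he he'
      ((huniq _ ⟨isClopen_basicOpen_of_isIdempotentElem he, hpre e⟩).trans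
        (huniq _ ⟨isClopen_basicOpen_of_isIdempotentElem he', by rw [hpre, hee]⟩).symm)
  · obtain ⟨U, ⟨hU, hUV⟩, -⟩ := h _ (isClopen_basicOpen_of_isIdempotentElem hd)
    obtain ⟨e, he, rfl⟩ := exists_idempotent_of_isClopen hU
    exact ⟨e, he, basicOpen_injective (he.map φ) hd (by rw [← hpre, hUV])⟩
  · obtain ⟨d, hd, rfl⟩ := exists_idempotent_of_isClopen hV
    obtain ⟨e, he, rfl⟩ := h.surjOn hd
    refine ⟨_, ⟨isClopen_basicOpen_of_isIdempotentElem he, hpre e⟩, fun U hU ↦ ?_⟩
    obtain ⟨e', he', rfl⟩ := exists_idempotent_of_isClopen hU.1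
    refine congrArg (fun x ↦ (basicOpen x : Set (PrimeSpectrum B))) (h.injOn he' he ?_)
    exact basicOpen_injective (he'.map φ) hd (by rw [← hpre, hU.2])

end ProperClopenLib
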