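import Groth.Agent.ProperClopenLib.CoupleToPair
import Groth.Agent.ProperClopenLib.LocalIdem
import Mathlib.LinearAlgebra.TensorProduct.Quotient

/-!
# The global functions of a henselian couple form a henselian pair
-/

set_option autoImplicit false

universe u

open CategoryTheory CategoryTheory.Limits AlgebraicGeometry Opposite TopologicalSpace TensorProduct

namespace ProperClopenLib

noncomputable section

/-- In a flat base change, the kernel of the changed map is generated by the original kernel. -/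
theorem mem_map_ker_of_isPushout (B R C : Type u) [CommRing B] [CommRing R] [CommRing C] [Algebra B R]
    [Algebra B C] [Module.Flat B C] {P : CommRingCat.{u}} {φ' : CommRingCat.of R ⟶ P}
    {a' : CommRingCat.of C ⟶ P}
    (sq : IsPushout (CommRingCat.ofHom (algebraMap B R)) (CommRingCat.ofHom (algebraMap B C)) φ' a')
    {c : C} (hc : a' c = 0) : c ∈ (RingHom.ker (algebraMap B R)).map (algebraMap B C) := by
  have hT := CommRingCat.isPushout_tensorProduct B C R
  let e := sq.flip.isoIsPushout _ _ hT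
  have he : a' ≫ e.hom = CommRingCat.ofHom Algebra.TensorProduct.includeLeftRingHom :=
    IsPushout.inl_isoIsPushout_hom _ _ sq.flip hT
  have h0 : c ⊗ₜ[B] (1 : R) = 0 := by
    have h := congrArg (fun m : CommRingCat.of C ⟶ _ ↦ m c) he
    simp only [ConcreteCategory.comp_apply, hc, map_zero] at h
    exact h.symm
  let K := RingHom.ker (algebraMap B R)
  let ι : (B ⧸ K) →ₗ[B] R := (RingHom.ker (algebraMap B R)).liftQ (Algebra.linearMap B R) le_rfl
  have hι : Function.Injective ι := by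
    rw [← LinearMap.ker_eq_bot]
    exact Submodule.ker_liftQ_eq_bot _ _ _ le_rfl
  have h1 : c ⊗ₜ[B] (Submodule.Quotient.mk (p := K) (1 : B)) = 0 := by
    refine Module.Flat.lTensor_preserves_injective_linearMap (M := C) ι hι ?_
    rw [LinearMap.lTensor_tmul, map_zero]
    show c ⊗ₜ[B] algebraMap B R 1 = 0
    rw [map_one]; exact h0
  have h2 := congrArg (tensorQuotEquivQuotSMul C K) h1
  rw [map_zero] at h2
  erw [tensorQuotEquivQuotSMul_tmul_mk] at h2
  rw [one_smul, Submodule.Quotient.mk_eq_zero, Ideal.smul_top_eq_map] at h2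
  exact h2

/-- The functions of a henselian couple form a henselian pair. -/
theorem henselianRing_appTop_ker {X X₀ : Scheme.{u}} (i : X₀ ⟶ X) [IsClosedImmersion i] [CompactSpace X]
    [QuasiSeparatedSpace X]
    (hX : ∀ (Y : Scheme.{u}) (g : Y ⟶ X), IsFinite g → Lifts (pullback.fst g i)) :
    HenselianRing Γ(X, ⊤) (RingHom.ker i.appTop.hom) := by
  let J : Ideal Γ(X, ⊤) := RingHom.ker i.appTop.hom
  have hJ : J ≤ Ideal.jacobson ⊥ := by
    intro a ha
    rw [Ideal.mem_jacobson_bot]
    intro y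
    by_contra hu
    let v := a * y + 1
    have hv : X.basicOpen v ≠ ⊤ := fun h ↦ hu (by
      exact X.toRingedSpace.isUnit_of_isUnit_germ ⊤ v fun x _ ↦
        (X.mem_basicOpen v x trivial).mp (h.ge (trivial : x ∈ (⊤ : X.Opens))))
    let T : Closeds X := ⟨((X.basicOpen v : Set X))ᶜ, (X.basicOpen v).isOpen.isClosed_compl⟩
    let Z := Scheme.IdealSheafData.vanishingIdeal T
    have hrZ : Set.range Z.subschemeι = T := DvrProperLib.range_subscheme_vanishingIdeal T
    obtain ⟨x, hx⟩ : ∃ x, x ∉ X.basicOpen v := by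
      by_contra h
      simp only [not_exists, not_not] at h
      exact hv (eq_top_iff.mpr fun x _ ↦ h x)
    have hxi : ∀ x₀ : X₀, i x₀ ∈ X.basicOpen v := fun x₀ ↦ by
      show x₀ ∈ i ⁻¹ᵁ X.basicOpen v
      rw [Scheme.preimage_basicOpen_top]
      have : i.appTop v = 1 := by
        rw [map_add, map_mul, map_one, show i.appTop a = 0 from ha, zero_mul, zero_add]
      rw [this, Scheme.basicOpen_of_isUnit _ isUnit_one]
      trivial
    obtain ⟨U, -, huniq⟩ := hX Z.subscheme Z.subschemeι inferInstance ∅ isClopen_empty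
    haveI hemp : IsEmpty ↥(pullback Z.subschemeι i : Scheme.{u}) := ⟨fun p ↦
      hrZ.le ⟨(pullback.fst Z.subschemeι i).base p, rfl⟩ (by
        show Z.subschemeι ((pullback.fst Z.subschemeι i) p) ∈ X.basicOpen v
        rw [← Scheme.Hom.comp_apply, pullback.condition, Scheme.Hom.comp_apply]
        exact hxi _)⟩
    have h₁ := huniq ∅ ⟨isClopen_empty, Set.preimage_empty⟩
    have h₂ := huniq Set.univ ⟨isClopen_univ, Set.eq_empty_of_isEmpty _⟩
    obtain ⟨z, -⟩ : x ∈ Set.range Z.subschemeι := by rw [hrZ]; exact hx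
    exact (h₂.trans h₁.symm).le (Set.mem_univ z)
  refine HenselLib.henselianRing_of_idempotents_free hJ fun C _ _ _ _ ↦ ?_
  let K : Ideal C := J.map (algebraMap Γ(X, ⊤) C)
  refine ⟨fun e he ↦ he.map _, fun e he e' he' hee ↦
    HenselLib.idem_eq_of_sub_mem (HenselLib.map_le_jacobson_bot hJ) he he' (Ideal.Quotient.eq.mp hee),
    fun d hd ↦ ?_⟩
  obtain ⟨b, rfl⟩ := Ideal.Quotient.mk_surjective d
  let σ := Spec.map (CommRingCat.ofHom (algebraMap Γ(X, ⊤) C))
  have hflat : (CommRingCat.ofHom (algebraMap Γ(X, ⊤) C)).hom.Flat := RingHom.flat_algebraMap_iff.mpr inferInstance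
  let g := pullback.fst X.toSpecΓ σ
  let s := pullback.snd X.toSpecΓ σ
  haveI : IsFinite σ := (IsFinite.SpecMap_iff _).mpr (RingHom.finite_algebraMap.mpr inferInstance)
  haveI : IsFinite g := inferInstanceAs (IsFinite (pullback.fst X.toSpecΓ σ))
  haveI : QuasiCompact X.toSpecΓ := (quasiCompact_iff_compactSpace _).mpr inferInstance
  haveI : QuasiSeparated X.toSpecΓ := (quasiSeparated_iff_quasiSeparatedSpace _).mpr inferInstance
  haveI : IsIso X.toSpecΓ.appTop := by rw [Scheme.toSpecΓ_appTop]; infer_instance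
  haveI : IsIso s.appTop := H0Lib.isIso_appTop_baseChange (IsPullback.of_hasPullback X.toSpecΓ σ) hflat
  let W := pullback g i
  let q := pullback.fst g i
  let f₀ := i ≫ X.toSpecΓ
  haveI : QuasiCompact f₀ := inferInstance
  haveI : QuasiSeparated f₀ := inferInstance
  have sqW : IsPullback (pullback.snd g i) (q ≫ s) f₀ σ :=
    (IsPullback.of_hasPullback g i).flip.paste_vert (IsPullback.of_hasPullback X.toSpecΓ σ)
  let θ := (Scheme.ΓSpecIso (CommRingCat.of C)).inv ≫ s.appTop
  let ρ : CommRingCat.of C ⟶ Γ(W, ⊤) := θ ≫ q.appTop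
  have hker : ∀ c : C, ρ c = 0 → c ∈ K := fun c hc ↦ by
    have h1 := H0Lib.isPushout_ring sqW hflat
    letI := ((Scheme.ΓSpecIso Γ(X, ⊤)).inv ≫ f₀.appTop).hom.toAlgebra
    have h2 := mem_map_ker_of_isPushout Γ(X, ⊤) Γ(X₀, ⊤) C h1 (c := c) (by
      show (q ≫ s).appTop ((Scheme.ΓSpecIso (CommRingCat.of C)).inv c) = 0
      exact hc)
    have h3 : RingHom.ker (algebraMap Γ(X, ⊤) Γ(X₀, ⊤)) = J := by
      ext z
      show i.appTop (X.toSpecΓ.appTop ((Scheme.ΓSpecIso Γ(X, ⊤)).inv z)) = 0 ↔ i.appTop z = 0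
      rw [Scheme.toSpecΓ_appTop]
      simp
    rwa [h3] at h2
  have hK0 : ∀ c ∈ K, ρ c = 0 := fun c hc ↦ by
    have : K ≤ RingHom.ker ρ.hom := Ideal.map_le_iff_le_comap.mpr fun z hz ↦ by
      show (q ≫ s).appTop ((Scheme.ΓSpecIso (CommRingCat.of C)).inv (algebraMap Γ(X, ⊤) C z)) = 0
      have h1 : (Scheme.ΓSpecIso (CommRingCat.of C)).inv (algebraMap Γ(X, ⊤) C z) =
          σ.appTop ((Scheme.ΓSpecIso Γ(X, ⊤)).inv z) :=
        congrArg (fun m : Γ(X, ⊤) ⟶ _ ↦ m z)
          (Scheme.ΓSpecIso_inv_naturality (CommRingCat.ofHom (algebraMap Γ(X, ⊤) C)))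
      rw [h1]
      refine (congrArg (fun m : W ⟶ Spec Γ(X, ⊤) ↦ m.appTop ((Scheme.ΓSpecIso Γ(X, ⊤)).inv z)) sqW.w.symm).trans ?_
      show (pullback.snd g i).appTop (i.appTop (X.toSpecΓ.appTop ((Scheme.ΓSpecIso Γ(X, ⊤)).inv z))) = 0
      rw [Scheme.toSpecΓ_appTop]
      simp [show i.appTop z = 0 from hz]
    exact this hc
  have hβ : IsIdempotentElem (ρ b) := by
    have := hK0 _ (Ideal.Quotient.eq.mp (show Ideal.Quotient.mk K (b * b) = Ideal.Quotient.mk K b by
      rw [map_mul]; exact hd))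
    rw [map_sub, map_mul, sub_eq_zero] at this
    exact this
  have hV : IsClopen (W.basicOpen (ρ b) : Set W) := by
    refine ⟨⟨?_⟩, (W.basicOpen (ρ b)).isOpen⟩
    have : (W.basicOpen (ρ b) : Set W)ᶜ = W.basicOpen (1 - ρ b) := by
      ext x
      rw [Set.mem_compl_iff, SetLike.mem_coe, SetLike.mem_coe, W.mem_basicOpen (U := ⊤) (ρ b) x trivial,
        W.mem_basicOpen (U := ⊤) (1 - ρ b) x trivial]
      have he := hβ.map (W.presheaf.germ ⊤ x trivial).hom
      rcases IsLocalRing.isUnit_or_isUnit_one_sub_self (W.presheaf.germ ⊤ x trivial (ρ b)) with h | h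
      · refine iff_of_false (not_not.mpr h) fun h' ↦ ?_
        rw [map_sub, map_one, HenselLib.idem_eq_one_of_isUnit he h, sub_self] at h'
        exact not_isUnit_zero h'
      · refine iff_of_true (fun h' ↦ ?_) (by rw [map_sub, map_one]; exact h)
        rw [HenselLib.idem_eq_one_of_isUnit he h', sub_self] at h
        exact not_isUnit_zero h
    rw [this]
    exact (W.basicOpen (1 - ρ b)).isOpen
  obtain ⟨U, ⟨hU, hUV⟩, -⟩ := hX _ g inferInstance _ hV
  obtain ⟨e', he', hU'⟩ := exists_idempotent_of_isClopen_scheme hU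
  obtain ⟨ε, hε⟩ := (ConcreteCategory.bijective_of_isIso (C := CommRingCat) θ).2 e'
  have hεi : IsIdempotentElem ε := (ConcreteCategory.bijective_of_isIso (C := CommRingCat) θ).1 (by
    rw [map_mul, hε]; exact he')
  refine ⟨ε, hεi, Ideal.Quotient.eq.mpr (hker _ ?_)⟩
  rw [map_sub, sub_eq_zero]
  have hb : W.basicOpen (ρ ε) = W.basicOpen (ρ b) := by
    apply TopologicalSpace.Opens.ext
    rw [← hUV, ← hU', ← hε]
    show (W.basicOpen (q.appTop (θ ε)) : Set W) = _
    rw [← Scheme.preimage_basicOpen_top]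
    rfl
  have hεi' : IsIdempotentElem (ρ ε) := hεi.map ρ.hom
  exact idempotent_eq_of_forall hεi' hβ
    (by rw [Scheme.basicOpen_mul, hb, ← Scheme.basicOpen_mul, hβ.mul_one_sub_self, Scheme.basicOpen_zero])
    (by rw [Scheme.basicOpen_mul, ← hb, ← Scheme.basicOpen_mul, hεi'.mul_one_sub_self, Scheme.basicOpen_zero])

end

end ProperClopenLib
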