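import Groth.Agent.ProperClopenLib.Henselian

/-!
# Henselian couples from henselian pairs
-/

set_option autoImplicit false

universe u

open CategoryTheory CategoryTheory.Limits AlgebraicGeometry Opposite TopologicalSpace

namespace ProperClopenLib

/-- Lifting open and closed sets along a closed embedding, in terms of the image. -/
theorem existsUnique_preimage_of_isClosedEmbedding {P Y : Type*} [TopologicalSpace P]
    [TopologicalSpace Y] {q : P → Y} (hq : Topology.IsClosedEmbedding q)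
    (H : ∀ V : Set Y, V ⊆ Set.range q → (∃ O : TopologicalSpace.Opens Y, (O : Set Y) ∩ Set.range q = V) →
      IsClosed V → ∃! U : Set Y, IsClopen U ∧ U ∩ Set.range q = V)
    (V : Set P) (hV : IsClopen V) : ∃! U : Set Y, IsClopen U ∧ q ⁻¹' U = V := by
  obtain ⟨O, hO, hOV⟩ := hq.toIsInducing.isOpen_iff.mp hV.isOpen
  obtain ⟨U, ⟨hU, hUV⟩, huniq⟩ := H (q '' V) (Set.image_subset_range q V)
    ⟨⟨O, hO⟩, by rw [← hOV, Set.image_preimage_eq_inter_range]; rfl⟩
    (hq.isClosedMap _ hV.isClosed)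
  refine ⟨U, ⟨hU, hq.injective.image_injective ?_⟩, fun U' hU' ↦ huniq U' ⟨hU'.1, ?_⟩⟩
  · rw [Set.image_preimage_eq_inter_range, hUV]
  · rw [← hU'.2, Set.image_preimage_eq_inter_range]

variable {A : Type u} [CommRing A] (I : Ideal A) {X : Scheme.{u}}
  (f : X ⟶ Spec (CommRingCat.of A))

theorem range_fst_fst {Y : Scheme.{u}} (g : Y ⟶ X) :
    Set.range (pullback.fst g (pullback.fst f (Spec.map (CommRingCat.ofHom (Ideal.Quotient.mk I))))) =
      (g ≫ f) ⁻¹' PrimeSpectrum.zeroLocus (I : Set A) := by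
  rw [Scheme.Pullback.range_fst, Scheme.Pullback.range_fst]
  refine Eq.trans (congrArg (fun Z ↦ g ⁻¹' (f ⁻¹' Z)) ?_) (rfl : g ⁻¹' (f ⁻¹' PrimeSpectrum.zeroLocus (I : Set A)) = _)
  exact (range_comap_of_surjective _ _ Ideal.Quotient.mk_surjective).trans
    (congrArg (fun J : Ideal A ↦ PrimeSpectrum.zeroLocus (J : Set A)) Ideal.mk_ker)

variable [IsNoetherianRing A] [IsProper f]

/-- The couple of a proper scheme over a Noetherian ring is henselian, as soon as a henselian pair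
controls the global functions and the fibre over the zero locus meets every closed set. -/
theorem existsUnique_clopen_along_finite {R : Type u} [CommRing R] (J : Ideal R)
    [HenselianRing R J] (ρ : R →+* Γ(X, ⊤)) (σ : A →+* R)
    (hσ : ρ.comp σ = (Coh.toGlobal f : A →+* Γ(X, ⊤))) (hIJ : I.map σ ≤ J)
    (hJ : ∀ j ∈ J, ∀ x, f x ∈ PrimeSpectrum.zeroLocus (I : Set A) → x ∉ X.basicOpen (ρ j))
    (hmeet : ∀ O : X.Opens, (∀ x, f x ∈ PrimeSpectrum.zeroLocus (I : Set A) → x ∈ O) → O = ⊤)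
    {Y : Scheme.{u}} (g : Y ⟶ X) [IsFinite g]
    (V : Set ↥(pullback g (pullback.fst f (Spec.map (CommRingCat.ofHom (Ideal.Quotient.mk I))))))
    (hV : IsClopen V) :
    ∃! U : Set Y, IsClopen U ∧ (pullback.fst g (pullback.fst f
      (Spec.map (CommRingCat.ofHom (Ideal.Quotient.mk I))))) ⁻¹' U = V := by
  have := IsClosedImmersion.spec_of_surjective (CommRingCat.ofHom (Ideal.Quotient.mk I))
    Ideal.Quotient.mk_surjective
  refine existsUnique_preimage_of_isClosedEmbedding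
    (pullback.fst g _).isClosedEmbedding (fun W hW hWo hWc ↦ ?_) V hV
  rw [range_fst_fst] at hW hWo ⊢
  refine existsUnique_clopen_of_henselian (g ≫ f) I J (g.appTop.hom.comp ρ) σ ?_ hIJ
    (fun j hj y hy hy' ↦ hJ j hj (g y) hy ?_) (fun O hO ↦ ?_) W hW hWo hWc
  · rw [RingHom.comp_assoc, hσ]
    ext a
    rfl
  · exact (Scheme.preimage_basicOpen_top g (ρ j)).ge hy'
  · by_contra hne
    have hc : IsClosed (g '' (O : Set Y)ᶜ) := g.isClosedMap _ O.isOpen.isClosed_compl
    obtain ⟨y, hy⟩ : ((O : Set Y)ᶜ).Nonempty :=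
      Set.nonempty_compl.mpr fun h ↦ hne (SetLike.coe_injective h)
    have h := hmeet ⟨_, hc.isOpen_compl⟩ fun x hx ⟨y', hy', e⟩ ↦
      hy' (hO y' (show f (g y') ∈ _ from e ▸ hx))
    exact h.ge (trivial : g y ∈ (⊤ : X.Opens)) ⟨y, hy, rfl⟩

end ProperClopenLib

namespace ProperClopenLib

variable {A : Type u} [CommRing A] {X : Scheme.{u}} (f : X ⟶ Spec (CommRingCat.of A))

theorem toSpecΓ_comp_SpecMap_toGlobal :
    X.toSpecΓ ≫ Spec.map (CommRingCat.ofHom
      (R := A) (S := Γ(X, ⊤)) (Coh.toGlobal f : A →+* Γ(X, ⊤))) = f := by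
  have h : CommRingCat.ofHom (R := A) (S := Γ(X, ⊤)) (Coh.toGlobal f : A →+* Γ(X, ⊤)) =
      (Scheme.ΓSpecIso (CommRingCat.of A)).inv ≫ f.appTop := rfl
  rw [h, Spec.map_comp, ← Category.assoc, ← Scheme.toSpecΓ_naturality, Category.assoc,
    toSpecΓ_SpecMap_ΓSpecIso_inv, Category.comp_id]

theorem notMem_basicOpen_toGlobal (I : Ideal A) (a : A) (ha : a ∈ I) (x : X)
    (hx : f x ∈ PrimeSpectrum.zeroLocus (I : Set A)) :
    x ∉ X.basicOpen (show Γ(X, ⊤) from Coh.toGlobal f a) := by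
  intro h
  rw [show (show Γ(X, ⊤) from Coh.toGlobal f a) =
    f.appTop ((Scheme.ΓSpecIso (CommRingCat.of A)).inv a) from rfl,
    ← Scheme.preimage_basicOpen_top, basicOpen_eq_of_affine] at h
  exact h (hx ha)

end ProperClopenLib
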