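import Groth.Agent.ProperClopenLib.Basic
import Groth.Agent.ChowLib.Chow
import Groth.Agent.DvrProperLib.Closure
import Mathlib.AlgebraicGeometry.Morphisms.Finite

/-!
# Proper open and closed pieces over a complete base
-/

set_option autoImplicit false

universe u

open CategoryTheory CategoryTheory.Limits AlgebraicGeometry Opposite TopologicalSpace

namespace ProperClopenLib

variable {A : Type u} [CommRing A] [IsNoetherianRing A]

theorem exists_clopen_lift' {X : Scheme.{u}} (f : X ⟶ Spec (CommRingCat.of A)) [IsProper f]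
    (I : Ideal A) [IsAdicComplete I A] (U V : X.Opens)
    (hcov : ∀ x, f x ∈ PrimeSpectrum.zeroLocus (I : Set A) → x ∈ U ∨ x ∈ V)
    (hdis : ∀ x ∈ U ⊓ V, f x ∉ PrimeSpectrum.zeroLocus (I : Set A)) :
    ∃ W : X.Opens, IsClosed (W : Set X) ∧
      ∀ x, f x ∈ PrimeSpectrum.zeroLocus (I : Set A) → (x ∈ W ↔ x ∈ U) :=
  letI : X.Over (Spec (CommRingCat.of A)) := ⟨f⟩
  haveI : IsProper (X ↘ Spec (CommRingCat.of A)) := ‹IsProper f›
  exists_clopen_lift I U V hcov hdis

/-- A piece of the fibres over the zero locus which is open in them and proper over the base lifts to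
an open and closed subscheme which is proper. -/
theorem exists_clopen_proper_lift {X : Scheme.{u}} (f : X ⟶ Spec (CommRingCat.of A)) [IsSeparated f]
    [LocallyOfFiniteType f] [QuasiCompact f] (I : Ideal A) [IsAdicComplete I A] (V : X.Opens)
    {T : Scheme.{u}} (k : T ⟶ X) [IsProper (k ≫ f)]
    (hk : Set.range k = (V : Set X) ∩ f ⁻¹' PrimeSpectrum.zeroLocus (I : Set A)) :
    ∃ U : X.Opens, IsClosed (U : Set X) ∧ IsProper (U.ι ≫ f) ∧
      ∀ x, f x ∈ PrimeSpectrum.zeroLocus (I : Set A) → (x ∈ U ↔ x ∈ V) := by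
  classical
  let B := Spec (CommRingCat.of A)
  have hI := IsAdicComplete.le_jacobson_bot I
  have : IsLocallyNoetherian X := LocallyOfFiniteType.isLocallyNoetherian f
  have : CompactSpace X := QuasiCompact.compactSpace_of_compactSpace f
  have : QuasiSeparatedSpace X := quasiSeparatedSpace_of_quasiSeparated f
  have : IsNoetherian X := ⟨⟩
  obtain ⟨n, X', π, j, -, hj, hjπ, hπ, hπs, -, -, -, -⟩ :=
    ChowLib.chow f NoetherianSpace.finite_irreducibleComponents
  let q := CohB1.ProjSpaceOver.toBase n B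
  have hjq : j ≫ q = π ≫ f := hjπ
  let C : Set X' := π ⁻¹' Set.range k
  have hC0 : IsClosed (j '' C) := by
    have hr : Set.range (pullback.fst π k ≫ j) = j '' C := by
      rw [show (⇑(pullback.fst π k ≫ j) : _ → _) = j ∘ pullback.fst π k from rfl, Set.range_comp,
        Scheme.Pullback.range_fst]
    have : IsProper ((pullback.fst π k ≫ j) ≫ q) := by
      rw [Category.assoc, hjq, pullback.condition_assoc]
      infer_instance
    have := IsProper.of_comp (pullback.fst π k ≫ j) q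
    rw [← hr]
    exact (pullback.fst π k ≫ j).isClosedMap.isClosed_range
  let S : Closeds (CohB1.ProjSpaceOver n B : Scheme.{u}) := ⟨closure (Set.range j), isClosed_closure⟩
  let J := Scheme.IdealSheafData.vanishingIdeal S
  let P := J.subscheme
  let p : P ⟶ B := J.subschemeι ≫ q
  have hrJ : Set.range J.subschemeι = closure (Set.range j) :=
    DvrProperLib.range_subscheme_vanishingIdeal S
  have hmemj : ∀ x : P, J.subschemeι x ∈ j.coborderRange ↔ J.subschemeι x ∈ Set.range j := by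
    intro x
    have hx : J.subschemeι x ∈ closure (Set.range j) := hrJ.subset ⟨x, rfl⟩
    refine ⟨fun h ↦ ?_, fun h ↦ subset_coborder h⟩
    exact coborder_inter_closure.subset ⟨h, hx⟩
  obtain ⟨O, hO, hOV⟩ := j.isEmbedding.isInducing.isOpen_iff.mp (π ⁻¹ᵁ V).isOpen
  let U₁ : P.Opens := J.subschemeι ⁻¹ᵁ ((⟨O, hO⟩ : (CohB1.ProjSpaceOver n B).Opens) ⊓ j.coborderRange)
  let V₁ : P.Opens := ⟨(J.subschemeι ⁻¹' (j '' C))ᶜ,
    (hC0.preimage J.subschemeι.continuous).isOpen_compl⟩
  have hU₁ : ∀ x, p x ∈ PrimeSpectrum.zeroLocus (I : Set A) →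
      (x ∈ U₁ ↔ J.subschemeι x ∈ j '' C) := by
    intro x hx
    constructor
    · rintro ⟨hxO, hxc⟩
      obtain ⟨w, hw⟩ := (hmemj x).mp hxc
      refine ⟨w, ?_, hw⟩
      show π w ∈ Set.range k
      rw [hk]
      refine ⟨?_, ?_⟩
      · show w ∈ (π ⁻¹ᵁ V : Set X')
        rw [← hOV]
        show j w ∈ O
        rw [hw]
        exact hxO
      · show (π ≫ f) w ∈ PrimeSpectrum.zeroLocus (I : Set A)
        rw [← hjq, Scheme.Hom.comp_apply, hw]
        exact hx
    · rintro ⟨w, hw, hwx⟩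
      refine ⟨?_, (hmemj x).mpr ⟨w, hwx⟩⟩
      show J.subschemeι x ∈ O
      rw [← hwx]
      show w ∈ j ⁻¹' O
      rw [hOV]
      exact (hk.subset hw).1
  obtain ⟨W, hWc, hW⟩ := exists_clopen_lift' p I U₁ V₁
    (fun x hx ↦ by
      by_cases h : J.subschemeι x ∈ j '' C
      · exact Or.inl ((hU₁ x hx).mpr h)
      · exact Or.inr h)
    (fun x hx hx' ↦ hx.2 ((hU₁ x hx').mp hx.1))
  have hWj : ∀ x ∈ W, J.subschemeι x ∈ Set.range j := by
    have htop : (J.subschemeι ⁻¹ᵁ j.coborderRange) ⊔ ⟨(W : Set P)ᶜ, hWc.isOpen_compl⟩ = ⊤ := by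
      refine eq_top_of_closed_fibre p I hI _ fun x hx ↦ ?_
      by_cases h : x ∈ W
      · exact Or.inl ((hW x hx).mp h).2
      · exact Or.inr h
    intro x hx
    exact (hmemj x).mp ((htop.ge (trivial : x ∈ (⊤ : P.Opens))).resolve_right fun h ↦ h hx)
  let E : Set (CohB1.ProjSpaceOver n B : Scheme.{u}) := J.subschemeι '' W
  have hE : IsClosed E := J.subschemeι.isClosedEmbedding.isClosedMap _ hWc
  let D : X'.Opens := ⟨j ⁻¹' E, by
    obtain ⟨O', hO', hO'W⟩ := J.subschemeι.isEmbedding.isInducing.isOpen_iff.mp W.isOpen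
    have : j ⁻¹' E = j ⁻¹' O' := by
      ext w
      constructor
      · rintro ⟨x, hx, hxw⟩
        show j w ∈ O'
        rw [← hxw]
        exact hO'W.ge hx
      · intro hw
        obtain ⟨x, hx⟩ := hrJ.ge (subset_closure (Set.mem_range_self w) : j w ∈ _)
        refine ⟨x, hO'W.le ?_, hx⟩
        show J.subschemeι x ∈ O'
        rw [hx]
        exact hw
    rw [this]
    exact hO'.preimage j.continuous⟩
  have hDc : IsClosed (D : Set X') := hE.preimage j.continuous
  have hDprop : IsProper (D.ι ≫ π ≫ f) := by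
    have hcl : IsClosedImmersion (D.ι ≫ j) := by
      refine IsClosedImmersion.of_isPreimmersion _ ?_
      have : Set.range (D.ι ≫ j) = E := by
        rw [show (⇑(D.ι ≫ j) : _ → _) = j ∘ D.ι from rfl, Set.range_comp, Scheme.Opens.range_ι]
        show j '' (j ⁻¹' E) = E
        refine Set.image_preimage_eq_of_subset ?_
        rintro _ ⟨x, hx, rfl⟩
        exact hWj x hx
      rw [this]
      exact hE
    rw [← hjq, ← Category.assoc]
    exact MorphismProperty.comp_mem @IsProper _ _ inferInstance inferInstance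
  have hDZ : ∀ w, (π ≫ f) w ∈ PrimeSpectrum.zeroLocus (I : Set A) → (w ∈ D ↔ π w ∈ V) := by
    intro w hw
    obtain ⟨x, hx⟩ := hrJ.ge (subset_closure (Set.mem_range_self w) : j w ∈ _)
    have hpx : p x ∈ PrimeSpectrum.zeroLocus (I : Set A) := by
      show (J.subschemeι ≫ q) x ∈ _
      rw [Scheme.Hom.comp_apply, hx, ← Scheme.Hom.comp_apply, hjq]
      exact hw
    constructor
    · rintro ⟨x', hx', hx'w⟩
      obtain rfl : x' = x := J.subschemeι.isEmbedding.injective (hx'w.trans hx.symm)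
      obtain ⟨w', hw', hw'x⟩ := (hU₁ _ hpx).mp ((hW _ hpx).mp hx')
      obtain rfl : w' = w := j.isEmbedding.injective (hw'x.trans hx)
      exact (hk.subset hw').1
    · intro hwV
      refine ⟨x, (hW x hpx).mpr ((hU₁ x hpx).mpr ⟨w, ?_, hx.symm⟩), hx⟩
      show π w ∈ Set.range k
      rw [hk]
      exact ⟨hwV, hw⟩
  have hR : ∀ d ∈ D, π d ∉ π '' (D : Set X')ᶜ := by
    let R : D.toScheme.Opens := ⟨((D.ι ≫ π) ⁻¹' (π '' (D : Set X')ᶜ))ᶜ,
      ((π.isClosedMap _ D.isOpen.isClosed_compl).preimage (D.ι ≫ π).continuous).isOpen_compl⟩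
    have hRtop : R = ⊤ := by
      refine eq_top_of_closed_fibre (D.ι ≫ π ≫ f) I hI R fun d hd ↦ ?_
      rintro ⟨w, hw, hwd⟩
      have hd' : (π ≫ f) (D.ι d) ∈ PrimeSpectrum.zeroLocus (I : Set A) := hd
      have hwd' : π w = π (D.ι d) := hwd
      refine hw ((hDZ w ?_).mpr ?_)
      · rw [Scheme.Hom.comp_apply, hwd', ← Scheme.Hom.comp_apply]
        exact hd'
      · rw [hwd']
        exact (hDZ _ hd').mp d.2
    intro d hd
    let d' : D.toScheme := ⟨d, hd⟩
    have h : d' ∈ R := hRtop.ge (trivial : d' ∈ (⊤ : D.toScheme.Opens))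
    exact h
  have hcompl : (π '' (D : Set X'))ᶜ = π '' (D : Set X')ᶜ := by
    ext x
    constructor
    · intro hx
      obtain ⟨w, rfl⟩ := π.surjective x
      exact ⟨w, fun h ↦ hx ⟨w, h, rfl⟩, rfl⟩
    · rintro hx ⟨d, hd, rfl⟩
      exact hR d hd hx
  let U : X.Opens := ⟨π '' (D : Set X'), by
    rw [← isClosed_compl_iff, hcompl]
    exact π.isClosedMap _ D.isOpen.isClosed_compl⟩
  have hUc : IsClosed (U : Set X) := π.isClosedMap _ hDc
  refine ⟨U, hUc, ?_, fun x hx ↦ ?_⟩
  · have hcl : IsClosedImmersion U.ι := by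
      refine IsClosedImmersion.of_isPreimmersion _ ?_
      rw [Scheme.Opens.range_ι]
      exact hUc
    have hr : Set.range (D.ι ≫ π) ⊆ Set.range U.ι := by
      rw [Scheme.Opens.range_ι]
      rintro _ ⟨d, rfl⟩
      exact ⟨D.ι d, d.2, rfl⟩
    let s := IsOpenImmersion.lift U.ι (D.ι ≫ π) hr
    have : Surjective s := by
      refine ⟨fun x ↦ ?_⟩
      obtain ⟨d, hd, hdx⟩ := x.2
      refine ⟨⟨d, hd⟩, U.ι.isEmbedding.injective ?_⟩
      show (s ≫ U.ι) _ = _
      rw [IsOpenImmersion.lift_fac]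
      exact hdx
    have : UniversallyClosed (s ≫ U.ι ≫ f) := by
      rw [IsOpenImmersion.lift_fac_assoc, Category.assoc]
      infer_instance
    have : UniversallyClosed (U.ι ≫ f) := UniversallyClosed.of_comp_surjective s _
    exact { }
  · constructor
    · rintro ⟨d, hd, rfl⟩
      exact (hDZ d hx).mp hd
    · intro hxV
      obtain ⟨w, rfl⟩ := π.surjective x
      exact ⟨w, (hDZ w hx).mpr hxV, rfl⟩

end ProperClopenLib
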